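import Cfsg.Agent.Lib.Recognition.AbelianCentraliser.Reduce
import Cfsg.Agent.Lib.Involution.RecognisePSL2
import Cfsg.Agent.Lib.Perm.SharpThreeOdd
import Cfsg.Agent.Lib.Schur.Bound
import Cfsg.Agent.Lib.Classical.SL2Tori
import Cfsg.Agent.Lib.Classical.SLBasic
import Cfsg.Agent.Lib.PGroup.RestrictedPCyclic

/-!
# Groups in which every involution centraliser is abelian
-/

set_option autoImplicit false
set_option linter.unusedSectionVars false

namespace CfsgLib.Recognition.AbelianCentraliser

open CfsgLib.Involution.Dihedral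

/-- A commutative 2-group with a single involution is cyclic. -/
theorem isCyclic_of_one_involution {P : Type*} [Group P] [Finite P] (hP : IsPGroup 2 P)
    (hcomm : ∀ a b : P, Commute a b) (hone : ∀ a b : P, orderOf a = 2 → orderOf b = 2 → a = b) : IsCyclic P := by
  classical
  haveI : Fact (Nat.Prime 2) := ⟨Nat.prime_two⟩
  letI := Fintype.ofFinite P
  obtain ⟨g, -, hg⟩ := Finset.exists_max_image Finset.univ (fun x : P => orderOf x) Finset.univ_nonempty
  refine ⟨g, fun x => ?_⟩
  obtain ⟨k, hk⟩ := hP x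
  induction k generalizing x with
  | zero => rw [pow_zero, pow_one] at hk; rw [hk]; exact (Subgroup.zpowers g).one_mem
  | succ k ih =>
    rw [pow_succ', pow_mul] at hk
    obtain ⟨j, hj⟩ := Subgroup.mem_zpowers_iff.1 (ih (x ^ 2) hk)
    rcases Int.even_or_odd j with ⟨i, rfl⟩ | hodd
    · -- `x g⁻ⁱ` squares to the identity
      set y := x * (g ^ i)⁻¹ with hy
      have hy2 : y * y = 1 := by
        have hc : Commute x (g ^ i)⁻¹ := hcomm _ _
        calc y * y = x * ((g ^ i)⁻¹ * x) * (g ^ i)⁻¹ := by rw [hy]; group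
          _ = x * (x * (g ^ i)⁻¹) * (g ^ i)⁻¹ := by rw [hc.eq]
          _ = x ^ 2 * (g ^ i * g ^ i)⁻¹ := by rw [pow_two]; group
          _ = 1 := by rw [← zpow_add, hj, mul_inv_cancel]
      have e : x = y * g ^ i := by rw [hy, inv_mul_cancel_right]
      rw [e]
      refine mul_mem ?_ (Subgroup.zpow_mem _ (Subgroup.mem_zpowers g) i)
      by_cases hy1 : y = 1
      · rw [hy1]; exact (Subgroup.zpowers g).one_mem
      · obtain ⟨n, hn⟩ := IsPGroup.iff_orderOf.1 hP g
        rcases n with _ | n
        · have := hg y (Finset.mem_univ _)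
          rw [orderOf_eq_two hy2 hy1, hn, pow_zero] at this
          omega
        · rw [hone y _ (orderOf_eq_two hy2 hy1)
            (orderOf_pow_orderOf_div (orderOf_pos g).ne' (hn ▸ dvd_pow_self 2 n.succ_ne_zero))]
          exact Subgroup.npow_mem_zpowers g _
    · -- `x` would have larger order than `g`
      by_cases hx1 : x = 1
      · rw [hx1]; exact (Subgroup.zpowers g).one_mem
      exfalso
      obtain ⟨n, hn⟩ := IsPGroup.iff_orderOf.1 hP g
      obtain ⟨m, hm⟩ := IsPGroup.iff_orderOf.1 hP x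
      have hgj : orderOf (x ^ 2) = orderOf g := by
        have hcop : (orderOf g).Coprime j.natAbs := by
          rw [hn]
          refine Nat.Coprime.pow_left _ ((Nat.prime_two.coprime_iff_not_dvd).2 ?_)
          exact fun h => (Int.not_even_iff_odd.2 hodd) (Int.natAbs_even.1 (even_iff_two_dvd.2 h))
        rw [← hj]
        rcases Int.natAbs_eq j with e | e
        · rw [e, zpow_natCast]; exact hcop.orderOf_pow
        · rw [e, zpow_neg, zpow_natCast, orderOf_inv]; exact hcop.orderOf_pow
      have hle := hg x (Finset.mem_univ _)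
      rw [orderOf_pow, hm] at hgj
      rcases m with _ | m
      · rw [pow_zero] at hm
        exact hx1 (orderOf_eq_one_iff.1 hm)
      · rw [Nat.gcd_eq_right (dvd_pow_self 2 m.succ_ne_zero)] at hgj
        have : 0 < 2 ^ m := Nat.two_pow_pos m
        rw [pow_succ, Nat.mul_div_cancel _ two_pos] at hgj
        rw [hm, pow_succ] at hle
        omega

variable {G : Type*} [Group G] [Finite G]

theorem structure_of_noncyclic (hc : AC G) (P : Sylow 2 G) (hP : ¬ IsCyclic P) (hn : ¬ (P : Subgroup G).Normal) :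
    ∃ (F : Type) (_ : Field F) (_ : Fintype F) (A : Type) (_ : CommGroup A) (_ : Finite A),
      CharP F 2 ∧ Odd (Nat.card A) ∧ Nonempty (G ≃* Matrix.SpecialLinearGroup (Fin 2) F × A) := by
  classical
  haveI : Fact (Nat.Prime 2) := ⟨Nat.prime_two⟩
  haveI : Nontrivial (P : Subgroup G) := by
    by_contra h
    rw [not_nontrivial_iff_subsingleton] at h
    exact hP isCyclic_of_subsingleton
  haveI := P.2.center_nontrivial
  obtain ⟨z, hz⟩ : ∃ z : Subgroup.center (P : Subgroup G), orderOf z = 2 := by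
    obtain ⟨e, he, hh⟩ :=
      (P.2.to_subgroup (Subgroup.center (P : Subgroup G))).nontrivial_iff_card.1 inferInstance
    exact exists_prime_orderOf_dvd_card' 2 (by rw [hh]; exact dvd_pow_self 2 (by omega))
  set t := ((z : (P : Subgroup G)) : G) with htdef
  have ht : orderOf t = 2 := by rw [htdef, Subgroup.orderOf_coe, Subgroup.orderOf_coe]; exact hz
  have hPA : (P : Subgroup G) ≤ cz t := fun c hcP => mem_cz.2
    (congrArg Subtype.val (Subgroup.mem_center_iff.1 z.2 ⟨c, hcP⟩))
  have hi : 1 < Nat.card (invs t) := by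
    by_contra h
    haveI : Subsingleton (invs t) := Finite.card_le_one_iff_subsingleton.1 (by omega)
    refine hP (isCyclic_of_one_involution P.2 (fun a b => Subtype.ext (cz_comm hc ht (hPA a.2) (hPA b.2)).eq)
      fun a b ha hb => Subtype.ext ?_)
    exact congrArg (fun s : invs t => (s : G)) (Subsingleton.elim
      (⟨(a : G), hPA a.2, by rw [Subgroup.orderOf_coe]; exact ha⟩ : invs t)
      ⟨(b : G), hPA b.2, by rw [Subgroup.orderOf_coe]; exact hb⟩)
  have hN : nz t ≠ ⊤ := by
    refine fun e => hn ⟨fun p hp g => ?_⟩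
    set y := g * p * g⁻¹ with hy
    have hyA : y ∈ cz t := (Subgroup.mem_normalizer_iff.1 (show g ∈ nz t by rw [e]; exact Subgroup.mem_top g) p).1 (hPA hp)
    have hyp : IsPGroup 2 (Subgroup.zpowers y) := by
      obtain ⟨k, hk⟩ := IsPGroup.iff_orderOf.1 P.2 ⟨p, hp⟩
      refine IsPGroup.of_card (n := k) ?_
      rw [Nat.card_zpowers, hy, orderOf_conj, ← hk, Subgroup.orderOf_mk]
    have hsup := IsPGroup.to_sup_of_normal_left' P.2 hyp (Subgroup.zpowers_le.2 (Subgroup.mem_normalizer_iff.2
      fun x => ⟨fun hx => by rwa [(cz_comm hc ht hyA (hPA hx)).eq, mul_inv_cancel_right], fun hx => by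
        have h := cz_comm hc ht hyA (hPA hx)
        have e : x = y * x * y⁻¹ := by
          calc x = y⁻¹ * ((y * x * y⁻¹) * y) := by group
            _ = y⁻¹ * (y * (y * x * y⁻¹)) := by rw [h.eq]
            _ = _ := by group
        exact e ▸ hx⟩))
    have hm : y ∈ (P : Subgroup G) ⊔ Subgroup.zpowers y := Subgroup.mem_sup_right (Subgroup.mem_zpowers y)
    rwa [P.3 hsup le_sup_left] at hm
  -- the quotient by the elements centralising all involutions
  have hR := reg hc ht hN hi
  let Q := G ⧸ bb G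
  let π : G →* Q := QuotientGroup.mk' (bb G)
  have hπ : Function.Surjective π := QuotientGroup.mk'_surjective _
  have hcQ : AC Q := ac_quotient hc ht hN
  have htQ : orderOf (π t) = 2 := orderOf_mk hc ht hN ht
  have hNQ : nz (π t) ≠ ⊤ := nz_quotient hc ht hN
  have hiQ := invs_quotient hc ht hN hi
  have hsq : ∀ a ∈ cz (π t), a * a = 1 := sq_eq_one hcQ htQ hNQ (sharp_quotient hc ht hN hR) hiQ
  have h2A : IsPGroup 2 (cz (π t)) := fun a =>
    ⟨1, Subtype.ext (by rw [SubgroupClass.coe_pow, pow_one, pow_two]; exact hsq a a.2)⟩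
  obtain ⟨T, hT⟩ := h2A.exists_le_sylow
  have hHyp : CfsgLib.Involution.ElemCentralizer.Hyp T := by
    refine ⟨fun hcyc => ?_, fun hnT => hNQ ?_, fun s hs => ⟨hcQ s hs, fun c hcs => ?_⟩⟩
    · haveI := hcyc
      haveI : IsCyclic (cz (π t)) := isCyclic_of_injective (Subgroup.inclusion hT) (Subgroup.inclusion_injective hT)
      haveI : Nontrivial (invs (π t)) := Finite.one_lt_card_iff_nontrivial.1 hiQ
      obtain ⟨a, b, hab⟩ := exists_pair_ne (invs (π t))
      refine hab (Subtype.ext ?_)
      have h := CfsgLib.PGroup.RestrictedPCyclic.cyclic_sq_unique (Q := cz (π t)) (a := ⟨a, a.2.1⟩) (b := ⟨b, b.2.1⟩)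
        (Subtype.ext (by rw [SubgroupClass.coe_pow, pow_two]; exact mul_self a.2.2))
        (fun e => ne_one a.2.2 (congrArg Subtype.val e))
        (Subtype.ext (by rw [SubgroupClass.coe_pow, pow_two]; exact mul_self b.2.2))
        (fun e => ne_one b.2.2 (congrArg Subtype.val e))
      exact congrArg (fun x : cz (π t) => (x : Q)) h
    · rw [eq_top_iff]
      intro g _
      refine mem_nz_of_meet hcQ htQ t_mem htQ ?_
      have hTA : ∀ x ∈ (T : Subgroup Q), x ∈ cz (π t) := by
        haveI : Nontrivial (T : Subgroup Q) := ⟨⟨π t, hT t_mem⟩, 1, fun e => ne_one htQ (congrArg Subtype.val e)⟩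
        haveI := T.2.center_nontrivial
        obtain ⟨c, hc1⟩ := exists_ne (1 : Subgroup.center (T : Subgroup Q))
        have hcc : ((c : (T : Subgroup Q)) : Q) ∈ cz (π t) := mem_cz.2
          (congrArg Subtype.val (Subgroup.mem_center_iff.1 c.2 ⟨π t, hT t_mem⟩)).symm
        have hc2 : orderOf ((c : (T : Subgroup Q)) : Q) = 2 :=
          orderOf_eq_two (hsq _ hcc) fun e => hc1 (Subtype.ext (Subtype.ext e))
        intro x hx
        rw [← cz_of_mem hcQ htQ hc2 hcc]
        exact mem_cz.2 (congrArg Subtype.val (Subgroup.mem_center_iff.1 c.2 ⟨x, hx⟩))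
      exact hTA _ (hnT.conj_mem _ (hT t_mem) g)
    · obtain ⟨g, rfl⟩ := exists_conj_eq hcQ htQ hNQ hs
      have h1 : g⁻¹ * c * g ∈ cz (π t) := mem_cz.2 (by
        have h := (mem_cz.1 hcs).eq
        calc g⁻¹ * c * g * π t = g⁻¹ * (c * (g * π t * g⁻¹)) * g := by group
          _ = g⁻¹ * ((g * π t * g⁻¹) * c) * g := by rw [h]
          _ = _ := by group)
      rw [pow_two]
      calc c * c = g * (g⁻¹ * c * g * (g⁻¹ * c * g)) * g⁻¹ := by group
        _ = 1 := by rw [hsq _ h1, mul_one, mul_inv_cancel]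
  obtain ⟨F, hF, hFt, hFc, ⟨e⟩⟩ := CfsgLib.Involution.RecognisePSL2.nonempty_mulEquiv hHyp
  obtain ⟨k, hk⟩ := T.2.exists_card_eq
  haveI hchar : CharP F 2 := charP_of_card_eq_prime_pow (f := k) (by rw [hFc, hk])
  obtain ⟨e'⟩ := CfsgLib.Perm.SharpThreeOdd.psl_equiv_sl (F := F)
  let ε : Q ≃* Matrix.SpecialLinearGroup (Fin 2) F := e.trans e'
  have hF4 : 4 ≤ Nat.card F := by
    rw [Nat.card_eq_fintype_card, hFc]; exact CfsgLib.Involution.ElemCentralizer.four_le hHyp
  haveI hsimp : IsSimpleGroup Q := by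
    haveI : IsSimpleGroup (Matrix.ProjectiveSpecialLinearGroup (Fin 2) F) :=
      CfsgLib.Classical.psl_fin_isSimpleGroup le_rfl (fun _ => by rw [← Nat.card_eq_fintype_card]; exact hF4)
    exact e.isSimpleGroup
  have hQnc : ∃ a b : Q, ¬ Commute a b := by
    by_contra h
    push Not at h
    refine hNQ (eq_top_iff.2 fun g _ => mem_nz_of_meet hcQ htQ t_mem htQ ?_)
    rw [show g * π t * g⁻¹ = π t from mul_inv_eq_iff_eq_mul.2 (h g (π t)).eq]
    exact t_mem
  have hperf : commutator Q = ⊤ := (inferInstance : (commutator Q).Normal).eq_bot_or_eq_top.resolve_left fun h => by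
    obtain ⟨a, b, hab⟩ := hQnc
    exact hab (commutatorElement_eq_one_iff_commute.1 (Subgroup.mem_bot.1 (h ▸
      Subgroup.commutator_mem_commutator (Subgroup.mem_top a) (Subgroup.mem_top b))))
  -- the kernel is central
  have hcentral : bb G ≤ Subgroup.center G := by
    intro b hb
    let C : Subgroup G := Subgroup.centralizer ({b} : Set G)
    let W : Subgroup G := Subgroup.normalClosure ({t} : Set G)
    have hW : W ≤ C := by
      refine (Subgroup.closure_le _).2 fun v hv => ?_
      obtain ⟨a, ha, hav⟩ := Group.mem_conjugatesOfSet_iff.1 hv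
      rw [Set.mem_singleton_iff] at ha
      subst ha
      obtain ⟨g, rfl⟩ := isConj_iff.1 hav
      exact mem_cz.2 (mem_bb.1 hb _ ((orderOf_conj g t).trans ht)).symm
    have hWQ : W.map π = ⊤ :=
      ((inferInstance : W.Normal).map π hπ).eq_bot_or_eq_top.resolve_left fun h => by
        have : π t ∈ W.map π := Subgroup.mem_map_of_mem π (Subgroup.subset_normalClosure rfl)
        rw [h, Subgroup.mem_bot] at this
        exact ne_one htQ this
    refine Subgroup.mem_center_iff.2 fun g => ?_
    obtain ⟨w, hw, hwg⟩ : π g ∈ W.map π := hWQ ▸ Subgroup.mem_top _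
    have hgw : w⁻¹ * g ∈ bb G := QuotientGroup.eq.1 hwg
    have h1 : w⁻¹ * g ∈ C := mem_cz.2 (cz_comm hc ht (bb_le hc ht hN hgw) (bb_le hc ht hN hb))
    have h2 := mul_mem (hW hw) h1
    rw [mul_inv_cancel_left] at h2
    exact (mem_cz.1 h2).eq
  have hker : π.ker = bb G := QuotientGroup.ker_mk' _
  -- the extension splits
  have hdisj : ∀ b ∈ bb G, b ∈ commutator G → b = 1 := by
    intro b hb hd
    refine CfsgLib.Schur.Bound.eq_one_of_pow_index b (orderOf b) (orderOf_pos b).ne' (fun p hp hpb => ?_)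
      (pow_orderOf_eq_one b)
    haveI := Fact.mk hp
    have hp2 : p ≠ 2 := by
      rintro rfl
      exact (Nat.not_even_iff_odd.2 (bb_odd hc ht hN hb)) (even_iff_two_dvd.2 hpb)
    obtain ⟨S⟩ : Nonempty (Sylow p Q) := inferInstance
    obtain ⟨S'⟩ : Nonempty (Sylow p (Matrix.SpecialLinearGroup (Fin 2) F)) := inferInstance
    haveI : IsCyclic (S' : Subgroup (Matrix.SpecialLinearGroup (Fin 2) F)) :=
      CfsgLib.Classical.sl2_sylow_cyclic 2 p hp2 hp2 S'
    let S'' : Sylow p Q := S'.comapOfInjective ε.toMonoidHom ε.injective (by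
      intro x _; exact ⟨ε.symm x, ε.apply_symm_apply x⟩)
    haveI : IsCyclic (S'' : Subgroup Q) := by
      refine isCyclic_of_injective
        ((ε.toMonoidHom.comp (S'' : Subgroup Q).subtype).codRestrict (S' : Subgroup _) fun x => x.2) ?_
      exact fun x y h => Subtype.ext (ε.injective (congrArg Subtype.val h))
    exact ⟨(S'' : Subgroup Q).index, S''.not_dvd_index,
      CfsgLib.Schur.Bound.pow_index_eq_one_of_cyclic π hπ (by rw [hker]; exact hcentral) _ (by rw [hker]; exact hb) hd⟩
  let ψ : commutator G →* Q := π.comp (commutator G).subtype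
  have hψ : Function.Bijective ψ := by
    refine ⟨(MonoidHom.ker_eq_bot_iff _).1 ((Subgroup.eq_bot_iff_forall _).2 fun x hx =>
      Subtype.ext (hdisj _ ((QuotientGroup.eq_one_iff _).1 hx) x.2)), fun q => ?_⟩
    have : q ∈ (commutator G).map π := by
      rw [_root_.commutator_def, Subgroup.map_commutator, Subgroup.map_top_of_surjective π hπ,
        ← _root_.commutator_def, hperf]
      exact Subgroup.mem_top q
    obtain ⟨x, hx, rfl⟩ := this
    exact ⟨⟨x, hx⟩, rfl⟩
  let θ : commutator G × bb G →* G :=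
    MonoidHom.noncommCoprod (commutator G).subtype (bb G).subtype fun x b =>
      Subgroup.mem_center_iff.1 (hcentral b.2) x.1
  have hθ : Function.Bijective θ := by
    refine ⟨(MonoidHom.ker_eq_bot_iff _).1 ((Subgroup.eq_bot_iff_forall _).2 fun x hx => ?_), fun g => ?_⟩
    · have e : (x.1 : G) * x.2 = 1 := hx
      have hx2 : (x.2 : G) = 1 := hdisj _ x.2.2 (by
        rw [← inv_eq_of_mul_eq_one_right e]; exact Subgroup.inv_mem _ x.1.2)
      rw [hx2, mul_one] at e
      exact Prod.ext (Subtype.ext e) (Subtype.ext hx2)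
    · obtain ⟨x, hx⟩ := hψ.2 (π g)
      exact ⟨(x, ⟨(x : G)⁻¹ * g, QuotientGroup.eq.1 hx⟩), show (x : G) * ((x : G)⁻¹ * g) = g from mul_inv_cancel_left _ _⟩
  letI : CommGroup (bb G) :=
    { (inferInstance : Group (bb G)) with
      mul_comm := fun a b => Subtype.ext (Subgroup.mem_center_iff.1 (hcentral b.2) a) }
  refine ⟨F, hF, hFt, Shrink.{0} (bb G), inferInstance, Finite.of_equiv _ (equivShrink.{0} (bb G)), hchar, ?_, ⟨?_⟩⟩
  · rw [Nat.card_congr (equivShrink.{0} (bb G)).symm]
    refine Nat.not_even_iff_odd.1 fun he => ?_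
    obtain ⟨s, hs, hs2⟩ := CfsgLib.Involution.Basic.exists_involution_of_even _ he
    exact not_mem_bb hc ht hN hs2 hs
  · exact (MulEquiv.ofBijective θ hθ).symm.trans
      (((MulEquiv.ofBijective ψ hψ).trans ε).prodCongr Shrink.mulEquiv.symm)

end CfsgLib.Recognition.AbelianCentraliser
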