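import Mathlib
import Cfsg.Agent.Lib.Involution.StronglyEmbedded

/-!
# Abelian involution centralisers: the strongly embedded normaliser

For an involution `t` whose centraliser `A` is abelian and not normal, the normaliser of `A` is
strongly embedded and every two-point stabiliser is transitive on the involutions of `A`.
-/

set_option autoImplicit false
set_option linter.unusedSectionVars false

namespace CfsgLib.Recognition.AbelianCentraliser

open CfsgLib.Involution.Dihedral MulAction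

variable {G : Type*} [Group G]

/-- The centraliser of every involution is abelian. -/
def AC (G : Type*) [Group G] : Prop :=
  ∀ t : G, orderOf t = 2 → IsMulCommutative (Subgroup.centralizer ({t} : Set G))

/-- The centraliser of an element. -/
abbrev cz (x : G) : Subgroup G := Subgroup.centralizer ({x} : Set G)

/-- The normaliser of the involution centraliser. -/
abbrev nz (t : G) : Subgroup G := Subgroup.normalizer ((cz t : Subgroup G) : Set G)

/-- The elements centralising every involution. -/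
abbrev bb (G : Type*) [Group G] : Subgroup G := Subgroup.centralizer {v : G | orderOf v = 2}

/-- The base point. -/
abbrev pt (t : G) : G ⧸ nz t := ((1 : G) : G ⧸ nz t)

/-- The involutions of the centraliser. -/
abbrev invs (t : G) := {x : G // x ∈ cz t ∧ orderOf x = 2}

theorem mem_cz {x y : G} : y ∈ cz x ↔ Commute y x :=
  Subgroup.mem_centralizer_singleton_iff.trans ⟨fun h => h, fun h => h⟩

theorem t_mem {t : G} : t ∈ cz t := mem_cz.2 (Commute.refl t)

theorem mem_bb {b : G} : b ∈ bb G ↔ ∀ v : G, orderOf v = 2 → Commute b v :=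
  ⟨fun h v hv => (Subgroup.mem_centralizer_iff.1 h v hv).symm,
    fun h => Subgroup.mem_centralizer_iff.2 fun v hv => (h v hv).symm.eq⟩

theorem bb_normal : (bb G).Normal := by
  refine ⟨fun b hb g => mem_bb.2 fun v hv => ?_⟩
  have h := mem_bb.1 hb (g⁻¹ * v * g⁻¹⁻¹) ((orderOf_conj _ _).trans hv)
  rw [inv_inv] at h
  have h' := h.map (MulAut.conj g).toMonoidHom
  simp only [MulEquiv.coe_toMonoidHom, MulAut.conj_apply] at h'
  rwa [show g * (g⁻¹ * v * g) * g⁻¹ = v by group] at h'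

theorem eq_one_of_sq {b : G} (h : b * b = 1) (hodd : Odd (orderOf b)) : b = 1 := by
  by_contra hb
  rw [orderOf_eq_two h hb, Nat.odd_iff] at hodd
  omega

/-- An involution inverts a subgroup it normalises without fixed points. -/
theorem inverts_of_fpf [Finite G] {v : G} (hv : orderOf v = 2) (K : Subgroup G)
    (hn : ∀ k ∈ K, v * k * v⁻¹ ∈ K) (hf : ∀ k ∈ K, Commute k v → k = 1) :
    ∀ k ∈ K, v * k * v⁻¹ = k⁻¹ := by
  let φ : K →* K := MonoidHom.mk' (fun a => ⟨v * a.1 * v⁻¹, hn a.1 a.2⟩) fun a b =>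
    Subtype.ext (show v * (a.1 * b.1) * v⁻¹ = v * a.1 * v⁻¹ * (v * b.1 * v⁻¹) by group)
  have hfpf : MonoidHom.FixedPointFree φ := fun a ha =>
    Subtype.ext (hf a.1 a.2 (mul_inv_eq_iff_eq_mul.1 (congrArg Subtype.val ha : v * a.1 * v⁻¹ = a.1)).symm)
  have hinv : Function.Involutive φ := fun a => Subtype.ext (by
    show v * (v * a.1 * v⁻¹) * v⁻¹ = a.1
    calc v * (v * a.1 * v⁻¹) * v⁻¹ = (v * v) * a.1 * (v * v)⁻¹ := by group
      _ = a.1 := by rw [mul_self hv]; group)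
  intro k hk
  exact congrArg Subtype.val (congrFun (hfpf.coe_eq_inv_of_involutive hinv) ⟨k, hk⟩)

theorem comm_of_inverted {v : G} {K : Subgroup G} (h : ∀ k ∈ K, v * k * v⁻¹ = k⁻¹) {a b : G}
    (ha : a ∈ K) (hb : b ∈ K) : Commute a b := by
  have h1 := h _ (mul_mem ha hb)
  have e : a⁻¹ * b⁻¹ = (a * b)⁻¹ := by
    rw [← h1, ← h _ ha, ← h _ hb]; group
  calc a * b = ((a * b)⁻¹)⁻¹ := by group
    _ = (a⁻¹ * b⁻¹)⁻¹ := by rw [e]
    _ = b * a := by group

variable (hc : AC G)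

include hc

theorem cz_comm {v : G} (hv : orderOf v = 2) {y z : G} (hy : y ∈ cz v) (hz : z ∈ cz v) : Commute y z :=
  congrArg Subtype.val ((hc v hv).is_comm.comm ⟨y, hy⟩ ⟨z, hz⟩)

theorem cz_eq {s v : G} (hs : orderOf s = 2) (hv : orderOf v = 2) (h : Commute s v) : cz s = cz v :=
  le_antisymm (fun _ hx => mem_cz.2 (cz_comm hc hs hx (mem_cz.2 h.symm)))
    fun _ hx => mem_cz.2 (cz_comm hc hv hx (mem_cz.2 h))

variable {t : G} (ht : orderOf t = 2)

include ht

theorem cz_of_mem {s : G} (hs : orderOf s = 2) (h : s ∈ cz t) : cz s = cz t :=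
  cz_eq hc hs ht (mem_cz.1 h)

theorem inv_mem {s : G} (hs : s ∈ nz t) (hs2 : orderOf s = 2) : s ∈ cz t := by
  have h1 : s * t * s⁻¹ ∈ cz t := (Subgroup.mem_normalizer_iff.1 hs t).1 t_mem
  by_cases e1 : t * (s * t * s⁻¹) = 1
  · have e : s * t * s⁻¹ = t := (eq_inv_of_mul_eq_one_right e1).trans (inv_eq ht)
    exact mem_cz.2 (mul_inv_eq_iff_eq_mul.1 e)
  · have he : orderOf (t * (s * t * s⁻¹)) = 2 := by
      refine orderOf_eq_two ?_ e1
      calc t * (s * t * s⁻¹) * (t * (s * t * s⁻¹)) = t * ((s * t * s⁻¹) * t) * (s * t * s⁻¹) := by group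
        _ = t * (t * (s * t * s⁻¹)) * (s * t * s⁻¹) := by rw [(mem_cz.1 h1).eq]
        _ = (t * t) * (s * (t * t) * s⁻¹) := by group
        _ = 1 := by rw [mul_self ht]; group
    rw [← cz_of_mem hc ht he (mul_mem t_mem h1), mem_cz]
    refine mul_inv_eq_iff_eq_mul.1 (?_ : s * (t * (s * t * s⁻¹)) * s⁻¹ = t * (s * t * s⁻¹))
    calc s * (t * (s * t * s⁻¹)) * s⁻¹ = (s * t * s⁻¹) * ((s * s) * t * (s * s)⁻¹) := by group
      _ = (s * t * s⁻¹) * t := by rw [mul_self hs2]; group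
      _ = _ := (mem_cz.1 h1).eq

theorem mem_nz_of_meet {g a : G} (ha : a ∈ cz t) (ha2 : orderOf a = 2) (h : g * a * g⁻¹ ∈ cz t) :
    g ∈ nz t := by
  rw [Subgroup.mem_normalizer_iff]
  intro x
  change x ∈ cz t ↔ g * x * g⁻¹ ∈ cz t
  have h1 := cz_of_mem hc ht ha2 ha
  have h2 := cz_of_mem hc ht ((orderOf_conj g a).trans ha2) h
  conv_lhs => rw [← h1]
  conv_rhs => rw [← h2]
  rw [mem_cz, mem_cz]
  exact (Commute.conj_iff g).symm

variable [Finite G] (hN : nz t ≠ ⊤)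

include hN

theorem se : Cfsg.IsStronglyEmbedded (nz t) := by
  refine ⟨hN, CfsgLib.Involution.Basic.even_of_involution_mem _ (Subgroup.le_normalizer t_mem) ht, fun g hg => ?_⟩
  refine Nat.not_even_iff_odd.1 fun he => hg ?_
  obtain ⟨s, ⟨hs, a, ha, rfl⟩, hs2⟩ := CfsgLib.Involution.Basic.exists_involution_of_even _ he
  have hs2' : orderOf (g * a * g⁻¹) = 2 := hs2
  have ha2 : orderOf a = 2 := (orderOf_conj g a).symm.trans hs2'
  exact mem_nz_of_meet hc ht (inv_mem hc ht ha ha2) ha2 (inv_mem hc ht hs hs2')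

theorem exists_conj_eq {s : G} (hs : orderOf s = 2) : ∃ g, g * t * g⁻¹ = s :=
  isConj_iff.1 (CfsgLib.Involution.SE.all_conj (se hc ht hN) ht hs)

omit hc ht hN in
theorem fix_pt_iff {g : G} : g • pt t = pt t ↔ g ∈ nz t := by
  rw [CfsgLib.Involution.SE.fixes_mk_iff]; simp

omit hN in
theorem t_fix : t • pt t = pt t := fix_pt_iff.2 (Subgroup.le_normalizer t_mem)

omit hN in
theorem inv_fix_pt {s : G} (hs : orderOf s = 2) : s • pt t = pt t ↔ s ∈ cz t :=
  ⟨fun h => inv_mem hc ht (fix_pt_iff.1 h) hs, fun h => fix_pt_iff.2 (Subgroup.le_normalizer h)⟩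

theorem fix_unique {v : G} (hv : orderOf v = 2) {x y : G ⧸ nz t} (hx : v • x = x) (hy : v • y = y) : x = y :=
  CfsgLib.Involution.SE.fixed_unique (se hc ht hN) hv hx hy

theorem exists_inv (x : G ⧸ nz t) : ∃ v : G, orderOf v = 2 ∧ v • x = x :=
  CfsgLib.Involution.SE.exists_involution_fixing (se hc ht hN) x

theorem exists_fix {v : G} (hv : orderOf v = 2) : ∃ x : G ⧸ nz t, v • x = x :=
  CfsgLib.Involution.SE.exists_fixed (se hc ht hN) hv

theorem cz_fix {v c : G} {w : G ⧸ nz t} (hv : orderOf v = 2) (hw : v • w = w) (h : c ∈ cz v) : c • w = w :=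
  CfsgLib.Involution.SE.commute_fixes (se hc ht hN) hv hw (mem_cz.1 h)

omit hN in
theorem to_base {v : G} {w : G ⧸ nz t} (hv : orderOf v = 2) (hw : v • w = w) :
    ∃ g : G, g • w = pt t ∧ ∀ c ∈ cz v, g * c * g⁻¹ ∈ cz t := by
  obtain ⟨g, hg⟩ := exists_smul_eq G w (pt t)
  refine ⟨g, hg, fun c hcv => ?_⟩
  have hv' : orderOf (g * v * g⁻¹) = 2 := (orderOf_conj g v).trans hv
  have h1 : g * v * g⁻¹ ∈ cz t := (inv_fix_pt hc ht hv').1 (by
    rw [← hg, smul_smul, inv_mul_cancel_right, mul_smul, hw])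
  rw [← cz_of_mem hc ht hv' h1, mem_cz]
  exact (Commute.conj_iff g).2 (mem_cz.1 hcv)

omit hN in
theorem cz_eq_of_fix {v v' : G} {w : G ⧸ nz t} (hv : orderOf v = 2) (hv' : orderOf v' = 2) (hw : v • w = w)
    (hw' : v' • w = w) : cz v = cz v' := by
  obtain ⟨g, hg, -⟩ := to_base hc ht hv hw
  have key : ∀ x : G, orderOf x = 2 → x • w = w → g * x * g⁻¹ ∈ cz t := fun x hx hxw =>
    (inv_fix_pt hc ht ((orderOf_conj g x).trans hx)).1 (by
      rw [← hg, smul_smul, inv_mul_cancel_right, mul_smul, hxw])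
  refine cz_eq hc hv hv' ((Commute.conj_iff g).1 ?_)
  exact cz_comm hc ht (key v hv hw) (key v' hv' hw')

theorem pair_odd {x y : G ⧸ nz t} (hxy : x ≠ y) : Odd (Nat.card ↥(stabilizer G x ⊓ stabilizer G y)) := by
  refine Nat.not_even_iff_odd.1 fun he => ?_
  obtain ⟨s, ⟨h1, h2⟩, hs⟩ := CfsgLib.Involution.Basic.exists_involution_of_even _ he
  exact hxy (fix_unique hc ht hN hs h1 h2)

theorem odd_of_fix {g : G} {x y : G ⧸ nz t} (hxy : x ≠ y) (hx : g • x = x) (hy : g • y = y) : Odd (orderOf g) :=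
  (pair_odd hc ht hN hxy).of_dvd_nat (Subgroup.orderOf_dvd_natCard _ ⟨hx, hy⟩)

theorem card_swap {x y : G ⧸ nz t} (hxy : x ≠ y) :
    Nat.card {v : G // orderOf v = 2 ∧ v • x = y} = Nat.card (invs t) := by
  rw [CfsgLib.Involution.SE.card_swaps (se hc ht hN) hxy]
  exact Nat.card_congr (Equiv.subtypeEquivRight fun v =>
    ⟨fun h => ⟨inv_mem hc ht h.2 h.1, h.1⟩, fun h => ⟨h.2, Subgroup.le_normalizer h.1⟩⟩)

theorem exists_swap {x y : G ⧸ nz t} (hxy : x ≠ y) : ∃ v : G, orderOf v = 2 ∧ v • x = y := by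
  have h : 0 < Nat.card (invs t) := Nat.card_pos_iff.2 ⟨⟨⟨t, t_mem, ht⟩⟩, inferInstance⟩
  rw [← card_swap hc ht hN hxy] at h
  obtain ⟨⟨v, hv⟩⟩ := (Nat.card_pos_iff.1 h).1
  exact ⟨v, hv⟩

omit hc ht hN in
theorem swap_back {v : G} (hv : orderOf v = 2) {x y : G ⧸ nz t} (h : v • x = y) : v • y = x := by
  rw [← h, smul_smul, mul_self hv, one_smul]

/-- The normaliser is the product of the centraliser and a two-point stabiliser. -/
theorem exists_pair_mul {x : G ⧸ nz t} (hx : x ≠ pt t) {h : G} (hh : h ∈ nz t) :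
    ∃ d : G, d • pt t = pt t ∧ d • x = x ∧ d⁻¹ * h ∈ cz t := by
  obtain ⟨u, hu, hux⟩ := exists_swap hc ht hN (Ne.symm hx)
  have hux' : (u : G ⧸ nz t) = x := by
    rw [← hux]; show (u : G ⧸ nz t) = ((u * 1 : G) : G ⧸ nz t); rw [mul_one]
  have huN : u ∉ nz t := fun e => hx (by rw [← hux]; exact fix_pt_iff.2 e)
  have hts : orderOf (h * t * h⁻¹) = 2 := (orderOf_conj h t).trans ht
  obtain ⟨d, ⟨hd1, hd2⟩, hd⟩ := CfsgLib.Involution.SE.transitive_pair (se hc ht hN) hu huN ht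
    (Subgroup.le_normalizer t_mem) hts (mul_mem (mul_mem hh (Subgroup.le_normalizer t_mem)) ((nz t).inv_mem hh))
  refine ⟨d, fix_pt_iff.2 hd1, ?_, ?_⟩
  · rw [← hux', CfsgLib.Involution.SE.fixes_mk_iff]
    obtain ⟨e, he, rfl⟩ := hd2
    show u⁻¹ * (u * e * u⁻¹) * u ∈ nz t
    rwa [show u⁻¹ * (u * e * u⁻¹) * u = e by group]
  · rw [mem_cz]
    show d⁻¹ * h * t = t * (d⁻¹ * h)
    calc d⁻¹ * h * t = d⁻¹ * (h * t * h⁻¹) * h := by group
      _ = d⁻¹ * (d * t * d⁻¹) * h := by rw [hd]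
      _ = t * (d⁻¹ * h) := by group

theorem bb_le : bb G ≤ cz t := fun _ hb => mem_cz.2 (mem_bb.1 hb t ht)

theorem not_mem_bb {v : G} (hv : orderOf v = 2) : v ∉ bb G := by
  intro hvb
  refine hN (eq_top_iff.2 fun g _ => ?_)
  have hgt : orderOf (g * t * g⁻¹) = 2 := (orderOf_conj g t).trans ht
  have h1 : cz v = cz t := cz_eq hc hv ht (mem_bb.1 hvb t ht)
  have h2 : g * t * g⁻¹ ∈ cz t := h1 ▸ mem_cz.2 (mem_bb.1 hvb _ hgt).symm
  exact mem_nz_of_meet hc ht t_mem ht h2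

theorem bb_odd {b : G} (hb : b ∈ bb G) : Odd (orderOf b) := by
  refine (Nat.not_even_iff_odd.1 fun he => ?_ : Odd (Nat.card (bb G))).of_dvd_nat (Subgroup.orderOf_dvd_natCard _ hb)
  obtain ⟨s, hs, hs2⟩ := CfsgLib.Involution.Basic.exists_involution_of_even _ he
  exact not_mem_bb hc ht hN hs2 hs

theorem bb_fix {b : G} (hb : b ∈ bb G) (x : G ⧸ nz t) : b • x = x := by
  obtain ⟨v, hv, hvx⟩ := exists_inv hc ht hN x
  exact cz_fix hc ht hN hv hvx (mem_cz.2 (mem_bb.1 hb v hv))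

theorem relIndex_eq : (cz t).relIndex (nz t) = Nat.card (invs t) := by
  let f : nz t → invs t := fun g => ⟨(g : G) * t * (g : G)⁻¹, (Subgroup.mem_normalizer_iff.1 g.2 t).1 t_mem,
    (orderOf_conj _ _).trans ht⟩
  have key : ∀ g h : nz t, f g = f h ↔ g⁻¹ * h ∈ (cz t).subgroupOf (nz t) := fun g h => by
    rw [Subgroup.mem_subgroupOf, mem_cz, Subtype.ext_iff]
    show (g : G) * t * (g : G)⁻¹ = h * t * (h : G)⁻¹ ↔ ((g : G)⁻¹ * h) * t = t * ((g : G)⁻¹ * h)
    constructor <;> intro e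
    · calc (g : G)⁻¹ * h * t = (g : G)⁻¹ * (h * t * (h : G)⁻¹) * h := by group
        _ = (g : G)⁻¹ * (g * t * (g : G)⁻¹) * h := by rw [e]
        _ = _ := by group
    · calc (g : G) * t * (g : G)⁻¹ = g * (t * ((g : G)⁻¹ * h)) * (h : G)⁻¹ := by group
        _ = g * ((g : G)⁻¹ * h * t) * (h : G)⁻¹ := by rw [e]
        _ = _ := by group
  let F : nz t ⧸ (cz t).subgroupOf (nz t) → invs t :=
    Quotient.lift f fun g h hgh => (key g h).2 (QuotientGroup.leftRel_apply.1 hgh)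
  refine Nat.card_congr (Equiv.ofBijective F ⟨?_, fun s => ?_⟩)
  · intro x y
    induction x using QuotientGroup.induction_on with | H g => ?_
    induction y using QuotientGroup.induction_on with | H h => ?_
    intro e
    exact QuotientGroup.eq.2 ((key g h).1 e)
  · obtain ⟨g, hg⟩ := exists_conj_eq hc ht hN s.2.2
    have : g ∈ nz t := mem_nz_of_meet hc ht t_mem ht (hg ▸ s.2.1)
    exact ⟨((⟨g, this⟩ : nz t) : nz t ⧸ _), Subtype.ext hg⟩

theorem card_nz : Nat.card (nz t) = Nat.card (cz t) * Nat.card (invs t) := by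
  rw [← relIndex_eq hc ht hN, Subgroup.relIndex, ← ((cz t).subgroupOf (nz t)).card_mul_index]
  congr 1
  exact Nat.card_congr (Subgroup.subgroupOfEquivOfLe Subgroup.le_normalizer).toEquiv

end CfsgLib.Recognition.AbelianCentraliser
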