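import Cfsg.Agent.Lib.Recognition.AbelianCentraliser.Sharp
import Cfsg.Agent.Lib.Perm.ZGroup.Index

/-!
# Semiregular abelian involution centralisers are elementary abelian
-/

set_option autoImplicit false
set_option linter.unusedSectionVars false

namespace CfsgLib.Recognition.AbelianCentraliser

open CfsgLib.Involution.Dihedral MulAction

variable {G : Type*} [Group G] [Finite G] {t : G}
  (hc : AC G) (ht : orderOf t = 2) (hN : nz t ≠ ⊤) (hS : Sharp t) (hi : 1 < Nat.card (invs t))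

include hc ht hN hS

theorem card_pair {y : G ⧸ nz t} (hy : y ≠ pt t) :
    Nat.card ↥(stabilizer G (pt t) ⊓ stabilizer G y) = Nat.card (invs t) := by
  refine Nat.card_congr (Equiv.ofBijective
    (fun e : ↥(stabilizer G (pt t) ⊓ stabilizer G y) => (⟨(e : G) * t * (e : G)⁻¹,
      (Subgroup.mem_normalizer_iff.1 (fix_pt_iff.1 e.2.1) t).1 t_mem, (orderOf_conj _ _).trans ht⟩ : invs t))
    ⟨fun e f h => ?_, fun s => ?_⟩)
  · have h' : (e : G) * t * (e : G)⁻¹ = f * t * (f : G)⁻¹ := congrArg Subtype.val h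
    have hA : (f : G)⁻¹ * e ∈ cz t := mem_cz.2 (by
      calc (f : G)⁻¹ * e * t = (f : G)⁻¹ * (e * t * (e : G)⁻¹) * e := by group
        _ = (f : G)⁻¹ * (f * t * (f : G)⁻¹) * e := by rw [h']
        _ = _ := by group)
    have hfix : ((f : G)⁻¹ * e) • y = y := by
      rw [mul_smul, (e.2.2 : (e : G) • y = y), inv_smul_eq_iff, (f.2.2 : (f : G) • y = y)]
    exact Subtype.ext (inv_mul_eq_one.1 (hS _ hA y hy hfix)).symm
  · obtain ⟨g, hg⟩ := exists_conj_eq hc ht hN s.2.2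
    obtain ⟨e, he0, hey, hea⟩ :=
      exists_pair_mul hc ht hN hy (mem_nz_of_meet hc ht t_mem ht (hg ▸ s.2.1 : g * t * g⁻¹ ∈ cz t))
    refine ⟨⟨e, he0, hey⟩, Subtype.ext ?_⟩
    show e * t * e⁻¹ = s
    rw [← hg]
    calc e * t * e⁻¹ = e * (t * (e⁻¹ * g)) * g⁻¹ := by group
      _ = e * (e⁻¹ * g * t) * g⁻¹ := by rw [(mem_cz.1 hea).eq]
      _ = _ := by group

include hi

theorem points : Nat.card {y : G ⧸ nz t // y ≠ pt t} = Nat.card (cz t) ∧
    ∀ h ∈ nz t, h ∉ cz t → ∃ y : G ⧸ nz t, y ≠ pt t ∧ h • y = y := by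
  classical
  letI := Fintype.ofFinite G
  letI := Fintype.ofFinite (G ⧸ nz t)
  set Y := {y : G ⧸ nz t // y ≠ pt t}
  let T := Σ y : Y, {e : ↥(stabilizer G (pt t) ⊓ stabilizer G y.1) // e ≠ 1}
  let U := {h : nz t // h ∉ (cz t).subgroupOf (nz t)}
  let f : T → U := fun x => ⟨⟨((x.2.1 : _) : G), fix_pt_iff.1 x.2.1.2.1⟩,
    fun h => x.2.2 (Subtype.ext (hS _ h _ x.1.2 x.2.1.2.2))⟩
  have hinj : Function.Injective f := by
    rintro ⟨⟨p, hp⟩, ⟨q, hq⟩⟩ ⟨⟨p', hp'⟩, ⟨q', hq'⟩⟩ e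
    have e' : (q : G) = q' := congrArg (fun x : U => ((x.1 : nz t) : G)) e
    have hqA : (q : G) ∉ cz t := fun h => hq (Subtype.ext (hS _ h p hp q.2.2))
    obtain rfl : p = p' := fixed_le hc ht hN hS hqA q.2.1 hp hp' q.2.2 (e' ▸ q'.2.2)
    obtain rfl : q = q' := Subtype.ext e'
    rfl
  set i := Nat.card (invs t)
  set m := Nat.card (cz t)
  have hfib : ∀ y : Y, Nat.card {e : ↥(stabilizer G (pt t) ⊓ stabilizer G y.1) // e ≠ 1} = i - 1 := fun y => by
    rw [Nat.card_eq_fintype_card, Fintype.card_subtype_compl, Fintype.card_subtype_eq, ← Nat.card_eq_fintype_card,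
      card_pair hc ht hN hS y.2]
  have hT : Nat.card T = Nat.card Y * (i - 1) := by
    rw [Nat.card_sigma, Finset.sum_congr rfl fun y _ => hfib y, Finset.sum_const, Finset.card_univ, smul_eq_mul,
      Nat.card_eq_fintype_card (α := Y)]
  have hU : Nat.card U = m * (i - 1) := by
    rw [Nat.card_eq_fintype_card, Fintype.card_subtype_compl, ← Nat.card_eq_fintype_card, card_nz hc ht hN,
      ← Nat.card_eq_fintype_card (α := {x : nz t // x ∈ (cz t).subgroupOf (nz t)}),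
      Nat.card_congr (Subgroup.subgroupOfEquivOfLe Subgroup.le_normalizer).toEquiv, Nat.mul_sub_one]
  have hTc := Nat.card_le_card_of_injective f hinj
  rw [hT, hU] at hTc
  have hle := Nat.le_of_mul_le_mul_right hTc (by omega)
  obtain ⟨g₀, hg₀⟩ : ∃ g, g ∉ nz t := by
    by_contra h
    push Not at h
    exact hN ((Subgroup.eq_top_iff' _).2 h)
  have hy : (g₀ : G ⧸ nz t) ≠ pt t := fun e => hg₀ (by
    rw [QuotientGroup.eq, mul_one, inv_mem_iff] at e; exact e)
  have hge : m ≤ Nat.card Y := by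
    refine Nat.card_le_card_of_injective (fun a : cz t => (⟨(a : G) • (g₀ : G ⧸ nz t), fun e => hy
      (MulAction.injective (a : G) (e.trans (fix_pt_iff.2 (Subgroup.le_normalizer a.2)).symm))⟩ : Y)) fun a b e => ?_
    have e' : (a : G) • (g₀ : G ⧸ nz t) = (b : G) • (g₀ : G ⧸ nz t) := congrArg Subtype.val e
    exact Subtype.ext (inv_mul_eq_one.1 (hS _ (mul_mem ((cz t).inv_mem b.2) a.2) _ hy
      (by rw [mul_smul, e', inv_smul_smul]))).symm
  refine ⟨le_antisymm hle hge, fun h hh hhA => ?_⟩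
  have hb : Function.Bijective f := (Nat.bijective_iff_injective_and_card f).2
    ⟨hinj, by rw [hT, hU, le_antisymm hle hge]⟩
  obtain ⟨x, hx⟩ := hb.2 ⟨⟨h, hh⟩, hhA⟩
  refine ⟨x.1.1, x.1.2, ?_⟩
  have e : ((x.2.1 : _) : G) = h := congrArg (fun z : U => ((z.1 : nz t) : G)) hx
  rw [← e]
  exact x.2.1.2.2

theorem regular : ∀ y z : G ⧸ nz t, y ≠ pt t → z ≠ pt t → ∃! a : cz t, (a : G) • y = z := by
  classical
  letI := Fintype.ofFinite G
  intro y z hy hz
  let g : cz t → {p : G ⧸ nz t // p ≠ pt t} := fun a => ⟨(a : G) • y, fun e => hy (MulAction.injective (a : G)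
    (e.trans (fix_pt_iff.2 (Subgroup.le_normalizer a.2)).symm))⟩
  have hg : Function.Injective g := fun a b e => by
    have e' : (a : G) • y = (b : G) • y := congrArg Subtype.val e
    exact Subtype.ext (inv_mul_eq_one.1 (hS _ (mul_mem ((cz t).inv_mem b.2) a.2) _ hy
      (by rw [mul_smul, e', inv_smul_smul]))).symm
  have hb : Function.Bijective g := (Nat.bijective_iff_injective_and_card g).2
    ⟨hg, (points hc ht hN hS hi).1.symm⟩
  obtain ⟨a, ha⟩ := hb.2 ⟨z, hz⟩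
  exact ⟨a, congrArg Subtype.val ha, fun b hb' => hg (Subtype.ext (hb'.trans (congrArg Subtype.val ha).symm))⟩

theorem isZassenhaus : Cfsg.IsZassenhausGroup G (G ⧸ nz t) := by
  classical
  obtain ⟨g₀, hg₀⟩ : ∃ g, g ∉ nz t := by
    by_contra h
    push Not at h
    exact hN ((Subgroup.eq_top_iff' _).2 h)
  have hy₀ : (g₀ : G ⧸ nz t) ≠ pt t := fun e => hg₀ (by
    rw [QuotientGroup.eq, mul_one, inv_mem_iff] at e; exact e)
  -- three fixed points
  have three : ∀ g : G, ∀ a b c : G ⧸ nz t, a ≠ b → b ≠ c → a ≠ c → g • a = a → g • b = b → g • c = c → g = 1 := by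
    intro g a b c hab hbc hac ha hb hc'
    obtain ⟨k, hk⟩ := exists_smul_eq G a (pt t)
    have hfx : ∀ p : G ⧸ nz t, g • p = p → (k * g * k⁻¹) • (k • p) = k • p := fun p hp => by
      rw [mul_smul, mul_smul, inv_smul_smul, hp]
    have hne : ∀ p : G ⧸ nz t, a ≠ p → k • p ≠ pt t := fun p hp e => hp (MulAction.injective k (hk.trans e.symm))
    by_cases hA : k * g * k⁻¹ ∈ cz t
    · exact conj_eq_one_iff.1 (hS _ hA _ (hne b hab) (hfx b hb))
    · exact absurd (MulAction.injective k (fixed_le hc ht hN hS hA (hk ▸ hfx a ha) (hne b hab) (hne c hac)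
        (hfx b hb) (hfx c hc'))) hbc
  refine ⟨?_, ?_, three, ?_, ?_⟩
  · refine ⟨fun {g g'} h => ?_⟩
    have h2 : 2 ≤ Nat.card (cz t) := Finite.one_lt_card_iff_nontrivial.2
      ⟨⟨t, t_mem⟩, 1, fun e => ne_one ht (congrArg Subtype.val e)⟩
    rw [← (points hc ht hN hS hi).1] at h2
    obtain ⟨⟨y, hy⟩, ⟨z, hz⟩, hyz⟩ := Finite.one_lt_card_iff_nontrivial.1 h2
    refine (inv_mul_eq_one.1 (three (g'⁻¹ * g) (pt t) y z (Ne.symm hy) (fun e => hyz (Subtype.ext e)) (Ne.symm hz)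
      ?_ ?_ ?_)).symm <;> rw [mul_smul, h, inv_smul_smul]
  · rw [is_two_pretransitive_iff]
    intro a b c d hab hcd
    obtain ⟨g, hg⟩ := exists_smul_eq G a (pt t)
    obtain ⟨g', hg'⟩ := exists_smul_eq G c (pt t)
    obtain ⟨k, hk, -⟩ := regular hc ht hN hS hi (g • b) (g' • d)
      (fun e => hab (MulAction.injective g (hg.trans e.symm))) (fun e => hcd (MulAction.injective g' (hg'.trans e.symm)))
    refine ⟨g'⁻¹ * (k : G) * g, ?_, ?_⟩
    · rw [mul_smul, mul_smul, hg, fix_pt_iff.2 (Subgroup.le_normalizer k.2), inv_smul_eq_iff]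
      exact hg'.symm
    · rw [mul_smul, mul_smul, hk, inv_smul_smul]
  · haveI : Nontrivial ↥(stabilizer G (pt t) ⊓ stabilizer G (g₀ : G ⧸ nz t)) :=
      Finite.one_lt_card_iff_nontrivial.1 (by rw [card_pair hc ht hN hS hy₀]; exact hi)
    obtain ⟨q, hq⟩ := exists_ne (1 : ↥(stabilizer G (pt t) ⊓ stabilizer G (g₀ : G ⧸ nz t)))
    exact ⟨q, fun e => hq (Subtype.ext e), pt t, g₀, Ne.symm hy₀, q.2.1, q.2.2⟩
  · intro R hR htr
    by_contra hall
    push Not at hall
    -- every involution of the centraliser inverts `R`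
    have hinv : ∀ s : G, s ∈ cz t → orderOf s = 2 → ∀ r ∈ R, s * r * s⁻¹ = r⁻¹ := fun s hsA hs =>
      inverts_of_fpf hs R (fun r hr => hR.conj_mem r hr s) fun r hr hrs => by
        have h : (⟨r, hr⟩ : R) ∈ stabilizer R (pt t) :=
          cz_fix hc ht hN hs ((inv_fix_pt hc ht hs).2 hsA) (mem_cz.2 hrs)
        exact congrArg Subtype.val ((Subgroup.eq_bot_iff_forall _).1 (hall (pt t)) _ h)
    obtain ⟨r, hr⟩ := htr.exists_smul_eq (pt t) (g₀ : G ⧸ nz t)
    haveI : Nontrivial (invs t) := Finite.one_lt_card_iff_nontrivial.1 hi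
    obtain ⟨s, hs⟩ := exists_ne (⟨t, t_mem, ht⟩ : invs t)
    have hcomm : Commute (r : G) ((s : G) * t) := by
      show (r : G) * (s * t) = s * t * r
      calc (r : G) * (s * t) = s * ((s : G)⁻¹ * r * s) * t := by group
        _ = s * (s * (r : G) * (s : G)⁻¹) * t := by rw [inv_eq s.2.2]
        _ = s * (r : G)⁻¹ * t := by rw [hinv _ s.2.1 s.2.2 _ r.2]
        _ = s * (t * r * t⁻¹) * t := by rw [hinv _ t_mem ht _ r.2]
        _ = s * t * r := by group
    have hmem : (s : G) * t ∈ cz t := mul_mem s.2.1 t_mem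
    have hst : orderOf ((s : G) * t) = 2 := orderOf_eq_two (by
      calc (s : G) * t * (s * t) = s * (t * s) * t := by group
        _ = s * (s * t) * t := by rw [(mem_cz.1 s.2.1).eq]
        _ = (s * s) * (t * t) := by group
        _ = 1 := by rw [mul_self s.2.2, mul_self ht, one_mul])
      fun e => hs (Subtype.ext ((eq_inv_of_mul_eq_one_left e).trans (inv_eq ht)))
    have := cz_fix hc ht hN hst ((inv_fix_pt hc ht hst).2 hmem) (mem_cz.2 hcomm)
    exact hy₀ ((show (g₀ : G ⧸ nz t) = (r : G) • pt t from hr.symm).trans this)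

theorem sq_eq_one : ∀ a ∈ cz t, a * a = 1 := by
  classical
  letI := Fintype.ofFinite (G ⧸ nz t)
  obtain ⟨g₀, hg₀⟩ : ∃ g, g ∉ nz t := by
    by_contra h
    push Not at h
    exact hN ((Subgroup.eq_top_iff' _).2 h)
  have hy₀ : (g₀ : G ⧸ nz t) ≠ pt t := fun e => hg₀ (by
    rw [QuotientGroup.eq, mul_one, inv_mem_iff] at e; exact e)
  let S : CfsgLib.Perm.ZGroup.Setup G (G ⧸ nz t) (pt t) (g₀ : G ⧸ nz t) :=
    { hZ := isZassenhaus hc ht hN hS hi
      hab := Ne.symm hy₀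
      F := cz t
      hle := fun a ha => fix_pt_iff.2 (Subgroup.le_normalizer ha)
      hnorm := ⟨fun a ha g => (Subgroup.mem_normalizer_iff.1 (fix_pt_iff.1 g.2) _).1 ha⟩
      hreg := regular hc ht hN hS hi }
  have hcH : Nat.card S.H = Nat.card (invs t) := card_pair hc ht hN hS hy₀
  have heven : 2 ∣ Nat.card (cz t) := ht ▸ Subgroup.orderOf_dvd_natCard _ t_mem
  have h1 : Nat.card (invs t) = Nat.card (cz t) - 1 := by
    have hpos : 0 < Nat.card (cz t) := Nat.card_pos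
    rcases CfsgLib.Perm.ZGroup.small_index _ S ⟨⟨fun x y => Subtype.ext (cz_comm hc ht x.2 y.2)⟩⟩ hcH with h | h
    · exact h
    · have h' : 2 * Nat.card (invs t) = Nat.card (cz t) - 1 := h
      omega
  intro a ha
  by_contra hne
  let f : invs t → {x : cz t // x ≠ 1 ∧ x ≠ ⟨a, ha⟩} := fun s => ⟨⟨s, s.2.1⟩, fun e => ne_one s.2.2 (congrArg Subtype.val e),
    fun e => hne (by
      have e' : (s : G) = a := congrArg Subtype.val e
      rw [← e']; exact mul_self s.2.2)⟩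
  have hf : Function.Injective f := fun s s' e =>
    Subtype.ext (congrArg (fun x : {x : cz t // x ≠ 1 ∧ x ≠ ⟨a, ha⟩} => ((x : cz t) : G)) e)
  have h2 := Nat.card_le_card_of_injective f hf
  letI := Fintype.ofFinite (cz t)
  have h3 : Nat.card {x : cz t // x ≠ 1 ∧ x ≠ ⟨a, ha⟩} + 2 = Nat.card (cz t) := by
    have ha1 : (⟨a, ha⟩ : cz t) ≠ 1 := fun e => hne (by
      rw [show a = 1 from congrArg Subtype.val e, one_mul])
    rw [Nat.card_eq_fintype_card, Nat.card_eq_fintype_card, Fintype.card_subtype,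
      show (Finset.univ.filter fun x : cz t => x ≠ 1 ∧ x ≠ ⟨a, ha⟩) = ({1, ⟨a, ha⟩} : Finset (cz t))ᶜ by ext x; simp,
      Finset.card_compl, Finset.card_pair (Ne.symm ha1)]
    have := Finset.card_le_univ ({1, ⟨a, ha⟩} : Finset (cz t))
    rw [Finset.card_pair (Ne.symm ha1)] at this
    omega
  omega

/-- No subgroup of odd order is transitive on the involutions. -/
theorem not_odd_transitive (K : Subgroup G) (hK : Odd (Nat.card K))
    (htr : ∀ s : G, orderOf s = 2 → ∃ k ∈ K, k * t * k⁻¹ = s) : False := by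
  haveI : Nontrivial (invs t) := Finite.one_lt_card_iff_nontrivial.1 hi
  obtain ⟨s, hs⟩ := exists_ne (⟨t, t_mem, ht⟩ : invs t)
  obtain ⟨d, hdK, hd⟩ := htr s s.2.2
  have hdN : d ∈ nz t := mem_nz_of_meet hc ht t_mem ht (hd ▸ s.2.1)
  have hdA : d ∉ cz t := fun h => hs (Subtype.ext (by
    rw [← hd]; exact mul_inv_eq_iff_eq_mul.2 (mem_cz.1 h).eq))
  obtain ⟨β, hβ, hdβ⟩ := (points hc ht hN hS hi).2 d hdN hdA
  -- the stabiliser in `K` of the base point fixes `β`
  set T : Subgroup G := K ⊓ stabilizer G (pt t) with hT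
  have hTA : ∀ a ∈ T, a ∈ cz t → a = 1 := fun a ha haA => eq_one_of_sq (sq_eq_one hc ht hN hS hi a haA)
    (hK.of_dvd_nat (Subgroup.orderOf_dvd_natCard _ ha.1))
  have hTβ : ∀ e ∈ T, e • β = β := by
    intro e he
    have hdT : d ∈ T := ⟨hdK, fix_pt_iff.2 hdN⟩
    obtain ⟨e', he'0, he'β, hea⟩ := exists_pair_mul hc ht hN hβ (fix_pt_iff.1 he.2)
    have h1 : d * e * d⁻¹ * e⁻¹ ∈ cz t := by
      set a := e'⁻¹ * e with ha
      have hn : ∀ g : G, g • pt t = pt t → ∀ b ∈ cz t, g * b * g⁻¹ ∈ cz t := fun g hg b hb =>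
        (Subgroup.mem_normalizer_iff.1 (fix_pt_iff.1 hg) b).1 hb
      have hcm : d * e' = e' * d := (pair_comm hc ht hN hS (Ne.symm hβ) (fix_pt_iff.2 hdN) hdβ he'0 he'β).eq
      have e1 : d * e * d⁻¹ * e⁻¹ = e' * (d * a * d⁻¹ * a⁻¹) * e'⁻¹ := by
        calc d * e * d⁻¹ * e⁻¹ = d * (e' * a) * d⁻¹ * (e' * a)⁻¹ := by rw [ha]; group
          _ = (d * e') * a * d⁻¹ * a⁻¹ * e'⁻¹ := by group
          _ = (e' * d) * a * d⁻¹ * a⁻¹ * e'⁻¹ := by rw [hcm]
          _ = _ := by group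
      rw [e1]
      exact hn e' he'0 _ (mul_mem (hn d (fix_pt_iff.2 hdN) a hea) (Subgroup.inv_mem _ hea))
    have h2 := hTA _ (mul_mem (mul_mem (mul_mem hdT he) (T.inv_mem hdT)) (T.inv_mem he)) h1
    have hde : d * e = e * d := by
      rw [mul_inv_eq_one] at h2
      calc d * e = (d * e * d⁻¹) * d := by group
        _ = e * d := by rw [h2]
    have h0 : e • pt t = pt t := he.2
    refine fixed_le hc ht hN hS hdA (fix_pt_iff.2 hdN) (fun h => hβ (MulAction.injective e (h.trans h0.symm))) hβ ?_ hdβ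
    rw [smul_smul, hde, mul_smul, hdβ]
  -- some element of `K` moves the base point to `β`
  obtain ⟨v, hv, hvβ⟩ := exists_inv hc ht hN β
  obtain ⟨k, hk, hkv⟩ := htr v hv
  have hkp : k • pt t = β := fix_unique hc ht hN hv (by
    rw [← hkv, smul_smul, inv_mul_cancel_right, mul_smul, t_fix hc ht]) hvβ
  have hdk : d • (k • β) = k • β := by
    have h3 := hTβ (k⁻¹ * d * k) ⟨mul_mem (mul_mem (K.inv_mem hk) hdK) hk,
      (by rw [mul_smul, mul_smul, hkp, hdβ, ← hkp, inv_smul_smul] : (k⁻¹ * d * k) • pt t = pt t)⟩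
    rwa [mul_smul, mul_smul, inv_smul_eq_iff] at h3
  have hkk : k • β = pt t := by
    by_contra h
    have := fixed_le hc ht hN hS hdA (fix_pt_iff.2 hdN) h hβ hdk hdβ
    rw [← hkp] at this
    exact hβ (hkp ▸ MulAction.injective k this)
  obtain ⟨j, hj⟩ : Odd (orderOf k) := hK.of_dvd_nat (Subgroup.orderOf_dvd_natCard _ hk)
  have hk2 : ∀ j : ℕ, k ^ (2 * j) • pt t = pt t := fun j => by
    induction j with
    | zero => rw [mul_zero, pow_zero, one_smul]
    | succ j ih => rw [show 2 * (j + 1) = 2 * j + 1 + 1 from rfl, pow_succ, pow_succ, mul_smul, mul_smul, hkp, hkk, ih]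
  have h := hk2 (j + 1)
  rw [show 2 * (j + 1) = orderOf k + 1 by omega, pow_succ, pow_orderOf_eq_one, one_mul, hkp] at h
  exact hβ h

end CfsgLib.Recognition.AbelianCentraliser
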