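import Cfsg.Agent.Lib.Recognition.AbelianCentraliser.Elementary

/-!
# The odd part of an abelian involution centraliser centralises every involution
-/

set_option autoImplicit false
set_option linter.unusedSectionVars false

namespace CfsgLib.Recognition.AbelianCentraliser

open CfsgLib.Involution.Dihedral MulAction

universe w

instance bb_normal_inst {G : Type*} [Group G] : (bb G).Normal := bb_normal

/-- Elements of the centraliser fixing a second point centralise every involution. -/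
def Reg {G : Type*} [Group G] (t : G) : Prop := ∀ a ∈ cz t, ∀ x : G ⧸ nz t, x ≠ pt t → a • x = x → a ∈ bb G

section quotient

variable {G : Type*} [Group G] [Finite G] {t : G} (hc : AC G) (ht : orderOf t = 2) (hN : nz t ≠ ⊤)

local notation "π" => QuotientGroup.mk' (bb G)

include hc ht hN

theorem lift_involution {z : G ⧸ bb G} (hz : orderOf z = 2) : ∃ v : G, orderOf v = 2 ∧ π v = z := by
  obtain ⟨x, rfl⟩ := QuotientGroup.mk'_surjective (bb G) z
  have hx2 : x * x ∈ bb G := (QuotientGroup.eq_one_iff _).1 (mul_self hz)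
  obtain ⟨k, hk⟩ := bb_odd hc ht hN hx2
  set n := orderOf (x * x) with hn
  have e : x ^ n = x * (x * x) ^ k := by rw [hk, pow_succ', pow_mul, pow_two]
  have e2 : π (x ^ n) = π x := by
    rw [e, map_mul, map_pow, show π (x * x) = 1 from (QuotientGroup.eq_one_iff _).2 hx2, one_pow, mul_one]
  refine ⟨x ^ n, orderOf_eq_two ?_ (fun e1 => ne_one hz ?_), e2⟩
  · rw [← pow_add, ← two_mul, pow_mul, pow_two]; exact pow_orderOf_eq_one _
  · rw [← e2, e1, map_one]

theorem mem_cz_of_commute {v g : G} (hv : orderOf v = 2) (h : Commute (π g) (π v)) : g ∈ cz v := by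
  set b := v⁻¹ * (g * v * g⁻¹) with hb
  have hbB : b ∈ bb G := by
    refine (QuotientGroup.eq_one_iff b).1 ?_
    show π b = 1
    rw [hb, map_mul, map_mul, map_mul, map_inv, map_inv, h.eq]; group
  have hbv := mem_bb.1 hbB v hv
  have h2 : orderOf (v * b) = 2 := by
    rw [hb, mul_inv_cancel_left, orderOf_conj]; exact hv
  have hb2 : b * b = 1 := by
    calc b * b = v * v * (b * b) := by rw [mul_self hv, one_mul]
      _ = v * (v * b) * b := by group
      _ = v * (b * v) * b := by rw [hbv.eq]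
      _ = v * b * (v * b) := by group
      _ = 1 := mul_self h2
  have hb1 := eq_one_of_sq hb2 (bb_odd hc ht hN hbB)
  rw [hb, inv_mul_eq_one] at hb1
  exact mem_cz.2 (show g * v = v * g by nth_rewrite 2 [hb1]; group)

theorem orderOf_mk {v : G} (hv : orderOf v = 2) : orderOf (π v) = 2 :=
  orderOf_eq_two (by rw [← map_mul, mul_self hv, map_one])
    fun e => not_mem_bb hc ht hN hv ((QuotientGroup.eq_one_iff v).1 e)

theorem ac_quotient : AC (G ⧸ bb G) := by
  intro z hz
  obtain ⟨v, hv, rfl⟩ := lift_involution hc ht hN hz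
  refine ⟨⟨fun a b => ?_⟩⟩
  obtain ⟨x, hx⟩ := QuotientGroup.mk'_surjective (bb G) (a : G ⧸ bb G)
  obtain ⟨y, hy⟩ := QuotientGroup.mk'_surjective (bb G) (b : G ⧸ bb G)
  have hxv := mem_cz_of_commute hc ht hN hv (g := x) (by rw [hx]; exact mem_cz.1 a.2)
  have hyv := mem_cz_of_commute hc ht hN hv (g := y) (by rw [hy]; exact mem_cz.1 b.2)
  refine Subtype.ext ?_
  show (a : G ⧸ bb G) * b = b * a
  rw [← hx, ← hy]
  exact ((cz_comm hc hv hxv hyv).map π).eq

theorem mem_nz_of_mk {g : G} (h : π g ∈ nz (π t)) : g ∈ nz t := by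
  have h1 := (Subgroup.mem_normalizer_iff.1 h (π t)).1 t_mem
  rw [← map_inv, ← map_mul, ← map_mul] at h1
  exact mem_nz_of_meet hc ht t_mem ht (mem_cz_of_commute hc ht hN ht (mem_cz.1 h1))

theorem nz_quotient : nz (π t) ≠ ⊤ := fun e => hN (eq_top_iff.2 fun g _ =>
  mem_nz_of_mk hc ht hN (e ▸ Subgroup.mem_top (π g)))

variable (hR : Reg t)

include hR

theorem sharp_quotient : Sharp (π t) := by
  intro a ha p hp hfix
  induction p using QuotientGroup.induction_on with | H q => ?_
  obtain ⟨g, rfl⟩ := QuotientGroup.mk'_surjective (bb G) q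
  obtain ⟨x, rfl⟩ := QuotientGroup.mk'_surjective (bb G) a
  have hgN : g ∉ nz t := by
    refine fun h => hp (QuotientGroup.eq.2 ?_)
    rw [mul_one, inv_mem_iff, Subgroup.mem_normalizer_iff]
    intro z
    obtain ⟨y, rfl⟩ := QuotientGroup.mk'_surjective (bb G) z
    show π y ∈ cz (π t) ↔ π g * π y * (π g)⁻¹ ∈ cz (π t)
    have key : ∀ y, π y ∈ cz (π t) ↔ y ∈ cz t := fun y =>
      ⟨fun h => mem_cz_of_commute hc ht hN ht (mem_cz.1 h), fun h => mem_cz.2 ((mem_cz.1 h).map π)⟩
    rw [← map_inv, ← map_mul, ← map_mul, key, key]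
    exact Subgroup.mem_normalizer_iff.1 h y
  rw [CfsgLib.Involution.SE.fixes_mk_iff, ← map_inv, ← map_mul, ← map_mul] at hfix
  exact (QuotientGroup.eq_one_iff x).2 (hR x (mem_cz_of_commute hc ht hN ht (mem_cz.1 ha)) (g : G ⧸ nz t)
    (fun e => hgN (by rw [QuotientGroup.eq, mul_one, inv_mem_iff] at e; exact e))
    (CfsgLib.Involution.SE.fixes_mk_iff.2 (mem_nz_of_mk hc ht hN hfix)))

variable (hi : 1 < Nat.card (invs t))

omit hR
include hi

theorem invs_quotient : 1 < Nat.card (invs (π t)) := by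
  refine hi.trans_le (Nat.card_le_card_of_injective
    (fun s : invs t => (⟨π s, mem_cz.2 ((mem_cz.1 s.2.1).map π), orderOf_mk hc ht hN s.2.2⟩ : invs (π t))) ?_)
  intro s s' e
  have e' : π (s : G) = π (s' : G) := congrArg Subtype.val e
  have hb : (s : G)⁻¹ * s' ∈ bb G := QuotientGroup.eq.1 e'
  refine Subtype.ext (inv_mul_eq_one.1 (eq_one_of_sq ?_ (bb_odd hc ht hN hb)))
  rw [inv_eq s.2.2]
  calc (s : G) * s' * (s * s') = s * (s' * s) * s' := by group
    _ = s * (s * s') * s' := by rw [(cz_comm hc ht s'.2.1 s.2.1).eq]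
    _ = s * s * (s' * s') := by group
    _ = 1 := by rw [mul_self s.2.2, mul_self s'.2.2, one_mul]

include hR

theorem sq_mem_bb {a : G} (ha : a ∈ cz t) : a * a ∈ bb G := by
  refine (QuotientGroup.eq_one_iff _).1 ?_
  show π (a * a) = 1
  rw [map_mul]
  exact sq_eq_one (ac_quotient hc ht hN) (orderOf_mk hc ht hN ht) (nz_quotient hc ht hN)
    (sharp_quotient hc ht hN hR) (invs_quotient hc ht hN hi) _ (mem_cz.2 ((mem_cz.1 ha).map π))

theorem odd_central_of_reg {a : G} (ha : a ∈ cz t) (hodd : Odd (orderOf a)) : a ∈ bb G := by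
  obtain ⟨k, hk⟩ := hodd
  have e : a = (a * a) ^ (k + 1) := by
    rw [← pow_two, ← pow_mul, show 2 * (k + 1) = orderOf a + 1 by omega, pow_succ, pow_orderOf_eq_one, one_mul]
  exact e ▸ Subgroup.pow_mem _ (sq_mem_bb hc ht hN hR hi ha) _

theorem no_odd_transitive (K : Subgroup G) (hK : Odd (Nat.card K))
    (htr : ∀ s : G, orderOf s = 2 → ∃ k ∈ K, k * t * k⁻¹ = s) : False := by
  refine not_odd_transitive (ac_quotient hc ht hN) (orderOf_mk hc ht hN ht) (nz_quotient hc ht hN)
    (sharp_quotient hc ht hN hR) (invs_quotient hc ht hN hi) (K.map π)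
    (hK.of_dvd_nat (Subgroup.card_map_dvd K π)) fun z hz => ?_
  obtain ⟨v, hv, rfl⟩ := lift_involution hc ht hN hz
  obtain ⟨k, hk, hkv⟩ := htr v hv
  exact ⟨π k, Subgroup.mem_map_of_mem π hk, by rw [← hkv, map_mul, map_mul, map_inv]⟩

end quotient

theorem reg_of_odd_central {G : Type*} [Group G] [Finite G] {t : G} (hc : AC G) (ht : orderOf t = 2)
    (hN : nz t ≠ ⊤) (h : ∀ a ∈ cz t, Odd (orderOf a) → a ∈ bb G) : Reg t := fun a ha _ hx hfix =>
  h a ha (odd_of_fix hc ht hN (Ne.symm hx) (fix_pt_iff.2 (Subgroup.le_normalizer ha)) hfix)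

/-- The odd part of the centraliser. -/
def oddPart {G : Type*} [Group G] (hc : AC G) {v : G} (hv : orderOf v = 2) : Subgroup G where
  carrier := {r | r ∈ cz v ∧ Odd (orderOf r)}
  one_mem' := ⟨one_mem _, by rw [orderOf_one]; exact odd_one⟩
  mul_mem' := fun {a b} ha hb => ⟨mul_mem ha.1 hb.1,
    (ha.2.mul hb.2).of_dvd_nat ((cz_comm hc hv ha.1 hb.1).orderOf_mul_dvd_mul_orderOf)⟩
  inv_mem' := fun {a} ha => ⟨Subgroup.inv_mem _ ha.1, by rw [orderOf_inv]; exact ha.2⟩

theorem ac_subgroup {G : Type*} [Group G] (hc : AC G) (H : Subgroup G) : AC H := fun v hv =>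
  ⟨⟨fun a b => Subtype.ext (Subtype.ext (cz_comm hc (v := (v : G)) (by rw [Subgroup.orderOf_coe]; exact hv)
    (mem_cz.2 ((mem_cz.1 a.2).map H.subtype)) (mem_cz.2 ((mem_cz.1 b.2).map H.subtype))).eq)⟩⟩

theorem odd_central_aux : ∀ (n : ℕ) {G : Type w} [Group G] [Finite G], Nat.card G = n → ∀ {t : G}, AC G →
    orderOf t = 2 → nz t ≠ ⊤ → 1 < Nat.card (invs t) → ∀ a ∈ cz t, Odd (orderOf a) → a ∈ bb G := by
  intro n
  induction n using Nat.strong_induction_on with
  | _ n IH =>
    intro G _ _ hn t hc ht hN hi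
    have hinvs : ∀ v : G, orderOf v = 2 → 1 < Nat.card (invs v) := by
      intro v hv
      obtain ⟨g, rfl⟩ := exists_conj_eq hc ht hN hv
      refine hi.trans_le (Nat.card_le_card_of_injective
        (fun s : invs t => (⟨g * s * g⁻¹, mem_cz.2 ((Commute.conj_iff g).2 (mem_cz.1 s.2.1)),
          (orderOf_conj g s).trans s.2.2⟩ : invs (g * t * g⁻¹))) fun s s' e => ?_)
      exact Subtype.ext (mul_left_cancel (mul_right_cancel (congrArg Subtype.val e)))
    -- proper subgroups containing two independent involutions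
    have sub : ∀ (H : Subgroup G), H ≠ ⊤ → ∀ (v v' : G) (w w' : G ⧸ nz t), orderOf v = 2 → orderOf v' = 2 →
        v • w = w → v' • w' = w' → w ≠ w' → (∀ s : G, s ∈ cz v → orderOf s = 2 → s ∈ H) → ∀ (hvH : v ∈ H),
        v' ∈ H → AC H ∧ orderOf (⟨v, hvH⟩ : H) = 2 ∧ nz (⟨v, hvH⟩ : H) ≠ ⊤ ∧
          1 < Nat.card (invs (⟨v, hvH⟩ : H)) ∧
          ∀ a ∈ cz (⟨v, hvH⟩ : H), Odd (orderOf a) → a ∈ bb H := by
      intro H hH v v' w w' hv hv' hw hw' hne hs hvH hv'H
      have h2 : orderOf (⟨v, hvH⟩ : H) = 2 := by rw [← Subgroup.orderOf_coe]; exact hv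
      have hN' : nz (⟨v, hvH⟩ : H) ≠ ⊤ := by
        intro e
        have h := inv_mem (ac_subgroup hc H) h2 (s := (⟨v', hv'H⟩ : H)) (e ▸ Subgroup.mem_top _)
          (by rw [← Subgroup.orderOf_coe]; exact hv')
        have hvv : Commute v' v := congrArg Subtype.val (mem_cz.1 h).eq
        exact hne (fix_unique hc ht hN hv' (cz_fix hc ht hN hv hw (mem_cz.2 hvv)) hw')
      have hi' : 1 < Nat.card (invs (⟨v, hvH⟩ : H)) := by
        refine (hinvs v hv).trans_le (Nat.card_le_card_of_injective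
          (fun s : invs v => (⟨⟨s, hs s s.2.1 s.2.2⟩, mem_cz.2 (Subtype.ext (mem_cz.1 s.2.1).eq),
            by rw [← Subgroup.orderOf_coe]; exact s.2.2⟩ : invs (⟨v, hvH⟩ : H))) fun s s' e => ?_)
        exact Subtype.ext (congrArg (fun x : invs (⟨v, hvH⟩ : H) => ((x : H) : G)) e)
      have hlt : Nat.card H < n := by
        rw [← hn]
        exact lt_of_le_of_ne (Nat.le_of_dvd Nat.card_pos H.card_subgroup_dvd_card)
          fun e => hH (Subgroup.eq_top_of_card_eq H e)
      exact ⟨ac_subgroup hc H, h2, hN', hi', IH _ hlt rfl (ac_subgroup hc H) h2 hN' hi'⟩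
    -- an element centralising involutions with different fixed points centralises all of them
    have linked : ∀ (v v' a : G) (w w' : G ⧸ nz t), orderOf v = 2 → orderOf v' = 2 → v • w = w → v' • w' = w' →
        w ≠ w' → a ∈ cz v → a ∈ cz v' → a ∈ bb G := by
      intro v v' a w w' hv hv' hw hw' hne hav hav'
      by_contra hab
      have hC : cz a ≠ ⊤ := fun e => hab (mem_bb.2 fun s _ => (mem_cz.1 (e ▸ Subgroup.mem_top s : s ∈ cz a)).symm)
      have step : ∀ (v v' : G) (w w' : G ⧸ nz t) (hv : orderOf v = 2), orderOf v' = 2 → v • w = w →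
          v' • w' = w' → w ≠ w' → a ∈ cz v → a ∈ cz v' → ∀ r ∈ oddPart hc hv, r ∈ cz v' := by
        intro v v' w w' hv hv' hw hw' hne hav hav' r hr
        have hvC : v ∈ cz a := mem_cz.2 (mem_cz.1 hav).symm
        obtain ⟨-, -, -, -, hodd⟩ := sub (cz a) hC v v' w w' hv hv' hw hw' hne
          (fun s hs _ => mem_cz.2 (cz_comm hc hv hs hav)) hvC (mem_cz.2 (mem_cz.1 hav').symm)
        have hrC : r ∈ cz a := mem_cz.2 (cz_comm hc hv hr.1 hav)
        have h := mem_bb.1 (hodd ⟨r, hrC⟩ (mem_cz.2 (Subtype.ext (mem_cz.1 hr.1).eq))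
          (by rw [← Subgroup.orderOf_coe]; exact hr.2)) ⟨v', mem_cz.2 (mem_cz.1 hav').symm⟩
          (by rw [← Subgroup.orderOf_coe]; exact hv')
        exact mem_cz.2 (h.map (cz a).subtype)
      set R := oddPart hc hv
      have hRR : R = oddPart hc hv' :=
        le_antisymm (fun r hr => ⟨step v v' w w' hv hv' hw hw' hne hav hav' r hr, hr.2⟩)
          fun r hr => ⟨step v' v w' w hv' hv hw' hw (Ne.symm hne) hav' hav r hr, hr.2⟩
      have haR : a ∈ R := ⟨hav, odd_of_fix hc ht hN hne (cz_fix hc ht hN hv hw hav) (cz_fix hc ht hN hv' hw' hav')⟩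
      set M := Subgroup.normalizer (R : Set G)
      have hMtop : M ≠ ⊤ := by
        refine fun e => hab (mem_bb.2 fun s hs => ?_)
        obtain ⟨g, rfl⟩ := exists_conj_eq hc ht hN hs
        obtain ⟨g', hg'⟩ := exists_conj_eq hc ht hN hv
        have hm : (g' * g⁻¹) * a * (g' * g⁻¹)⁻¹ ∈ R :=
          (Subgroup.mem_normalizer_iff.1 (e ▸ Subgroup.mem_top _ : g' * g⁻¹ ∈ M) a).1 haR
        have h := mem_cz.1 hm.1
        rw [← hg'] at h
        have h1 := (Commute.conj_iff (g * g'⁻¹)).2 h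
        have e1 : g * g'⁻¹ * (g' * g⁻¹ * a * (g' * g⁻¹)⁻¹) * (g * g'⁻¹)⁻¹ = a := by group
        have e2 : g * g'⁻¹ * (g' * t * g'⁻¹) * (g * g'⁻¹)⁻¹ = g * t * g⁻¹ := by group
        rwa [e1, e2] at h1
      have czM : cz v ≤ M := fun c hcv => by
        rw [Subgroup.mem_normalizer_iff]
        intro r
        constructor
        · intro hr
          rwa [(cz_comm hc hv hcv hr.1).eq, mul_inv_cancel_right]
        · intro hr
          have : Commute c (c * r * c⁻¹) := cz_comm hc hv hcv hr.1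
          have e : r = c * r * c⁻¹ := by
            calc r = c⁻¹ * ((c * r * c⁻¹) * c) := by group
              _ = c⁻¹ * (c * (c * r * c⁻¹)) := by rw [this.eq]
              _ = _ := by group
          exact e ▸ hr
      have hv'M : v' ∈ M := by
        rw [Subgroup.mem_normalizer_iff]
        intro r
        have hvv : v' ∈ cz v' := t_mem
        constructor
        · intro hr
          rw [hRR] at hr
          rw [(cz_comm hc hv' hvv hr.1).eq, mul_inv_cancel_right, hRR]; exact hr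
        · intro hr
          rw [hRR] at hr
          have : Commute v' (v' * r * v'⁻¹) := cz_comm hc hv' hvv hr.1
          have e : r = v' * r * v'⁻¹ := by
            calc r = v'⁻¹ * ((v' * r * v'⁻¹) * v') := by group
              _ = v'⁻¹ * (v' * (v' * r * v'⁻¹)) := by rw [this.eq]
              _ = _ := by group
          rw [hRR]; exact e ▸ hr
      have hvM : v ∈ M := czM t_mem
      obtain ⟨hcM, hvM2, hNM, hiM, hoddM⟩ :=
        sub M hMtop v v' w w' hv hv' hw hw' hne (fun s hs _ => czM hs) hvM hv'M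
      have conjM : ∀ s : G, s ∈ M → orderOf s = 2 → ∃ m ∈ M, m * v * m⁻¹ = s := by
        intro s hsM hs
        obtain ⟨m, hm⟩ := exists_conj_eq hcM hvM2 hNM (s := ⟨s, hsM⟩) (by rw [← Subgroup.orderOf_coe]; exact hs)
        exact ⟨m, m.2, congrArg Subtype.val hm⟩
      have centM : ∀ g : G, g * v * g⁻¹ ∈ M → g ∈ M := by
        intro g hg
        obtain ⟨m, hm, e⟩ := conjM _ hg ((orderOf_conj g v).trans hv)
        have h : m⁻¹ * g ∈ cz v := mem_cz.2 (by
          calc m⁻¹ * g * v = m⁻¹ * (g * v * g⁻¹) * g := by group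
            _ = m⁻¹ * (m * v * m⁻¹) * g := by rw [e]
            _ = _ := by group)
        have := mul_mem hm (czM h)
        rwa [mul_inv_cancel_left] at this
      have hse : Cfsg.IsStronglyEmbedded M := by
        refine ⟨hMtop, CfsgLib.Involution.Basic.even_of_involution_mem _ hvM hv, fun g hg => ?_⟩
        refine Nat.not_even_iff_odd.1 fun he => hg ?_
        obtain ⟨s, ⟨hs, b, hb, rfl⟩, hs2⟩ := CfsgLib.Involution.Basic.exists_involution_of_even _ he
        have hs2' : orderOf (g * b * g⁻¹) = 2 := hs2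
        have hb2 : orderOf b = 2 := (orderOf_conj g b).symm.trans hs2'
        obtain ⟨m, hm, rfl⟩ := conjM b hb hb2
        have h := centM (g * m) (by
          have e : g * m * v * (g * m)⁻¹ = g * (m * v * m⁻¹) * g⁻¹ := by group
          rw [e]; exact hs)
        have := mul_mem h (M.inv_mem hm)
        rwa [mul_inv_cancel_right] at this
      obtain ⟨u, hu, huM⟩ : ∃ u : G, orderOf u = 2 ∧ u ∉ M := by
        by_contra h
        push Not at h
        exact hMtop (eq_top_iff.2 fun g _ => centM g (h _ ((orderOf_conj g v).trans hv)))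
      set K := M ⊓ M.map (MulAut.conj u).toMonoidHom
      refine no_odd_transitive hcM hvM2 hNM (reg_of_odd_central hcM hvM2 hNM hoddM) hiM (K.subgroupOf M) ?_ ?_
      · rw [Nat.card_congr (Subgroup.subgroupOfEquivOfLe (inf_le_left : K ≤ M)).toEquiv]
        exact hse.2.2 u huM
      · intro s hs
        obtain ⟨d, hd, hdv⟩ := CfsgLib.Involution.SE.transitive_pair hse hu huM hv hvM
          (t := (s : G)) (by rw [Subgroup.orderOf_coe]; exact hs) s.2
        exact ⟨⟨d, hd.1⟩, hd, Subtype.ext hdv⟩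
    -- the centraliser is semiregular modulo the kernel
    refine fun a ha => odd_central_of_reg hc ht hN ?_ hi ha
    intro g hg x hx hgx
    classical
    by_contra hgB
    obtain ⟨vx, hvx, hvxx⟩ := exists_inv hc ht hN x
    have hg0 : g • pt t = pt t := fix_pt_iff.2 (Subgroup.le_normalizer hg)
    let Sw := {u : G // orderOf u = 2 ∧ u • pt t = x}
    have hgu : ∀ u : Sw, (u : G) * g * (u : G)⁻¹ ∈ cz vx := by
      intro u
      have h1 : orderOf ((u : G) * t * (u : G)⁻¹) = 2 := (orderOf_conj _ t).trans ht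
      have h2 : ((u : G) * t * (u : G)⁻¹) • x = x := by
        rw [mul_smul, mul_smul, inv_eq u.2.1, swap_back u.2.1 u.2.2, t_fix hc ht, u.2.2]
      rw [← cz_eq_of_fix hc ht h1 hvx h2 hvxx]
      exact mem_cz.2 ((Commute.conj_iff _).2 (mem_cz.1 hg))
    have hgu0 : ∀ u : Sw, ((u : G) * g * (u : G)⁻¹) • pt t = pt t := fun u => by
      rw [mul_smul, mul_smul, inv_eq u.2.1, u.2.2, hgx, swap_back u.2.1 u.2.2]
    have both : ∀ c : G, c ∈ cz t → c ∈ cz vx → c ∈ bb G := fun c h1 h2 =>
      linked t vx c (pt t) x ht hvx (t_fix hc ht) hvxx (Ne.symm hx) h1 h2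
    -- the product with the conjugate centralises the swapping involution
    have hh : ∀ u : Sw, g * ((u : G) * g * (u : G)⁻¹) ∈ cz (u : G) := by
      intro u
      set k := (u : G) * g * (u : G)⁻¹ with hk
      have hc1 : g * k * g⁻¹ * k⁻¹ ∈ cz vx := by
        refine mul_mem ?_ (Subgroup.inv_mem _ (hgu u))
        have h2 : (g * vx * g⁻¹) • x = x := by
          have e' : g⁻¹ • x = x := by rw [inv_smul_eq_iff, hgx]
          rw [mul_smul, mul_smul, e', hvxx, hgx]
        rw [← cz_eq_of_fix hc ht ((orderOf_conj g vx).trans hvx) hvx h2 hvxx]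
        exact mem_cz.2 ((Commute.conj_iff g).2 (mem_cz.1 (hgu u)))
      have hc0 : g * k * g⁻¹ * k⁻¹ ∈ cz t := by
        have : g * (k * g⁻¹ * k⁻¹) ∈ cz t :=
          mul_mem hg ((Subgroup.mem_normalizer_iff.1 (fix_pt_iff.1 (hgu0 u)) _).1 (Subgroup.inv_mem _ hg))
        rwa [show g * (k * g⁻¹ * k⁻¹) = g * k * g⁻¹ * k⁻¹ by group] at this
      have hcB := both _ hc0 hc1
      set c := g * k * g⁻¹ * k⁻¹ with hcdef
      have hcu : (u : G) * c⁻¹ * (u : G)⁻¹ = c⁻¹ :=
        mul_inv_eq_iff_eq_mul.2 (mem_bb.1 ((bb G).inv_mem hcB) u u.2.1).eq.symm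
      have e1 : (u : G) * (g * k) * (u : G)⁻¹ = c⁻¹ * (g * k) := by
        rw [hcdef, hk, inv_eq u.2.1]
        calc (u : G) * (g * (u * g * u)) * u = u * g * u * g * (u * u) := by group
          _ = u * g * u * g := by rw [mul_self u.2.1, mul_one]
          _ = _ := by group
      have e2 : g * k = c⁻¹ * c⁻¹ * (g * k) := by
        calc g * k = ((u : G) * u) * (g * k) * ((u : G) * u)⁻¹ := by rw [mul_self u.2.1]; group
          _ = (u : G) * ((u : G) * (g * k) * (u : G)⁻¹) * (u : G)⁻¹ := by group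
          _ = (u : G) * (c⁻¹ * (g * k)) * (u : G)⁻¹ := by rw [e1]
          _ = ((u : G) * c⁻¹ * (u : G)⁻¹) * ((u : G) * (g * k) * (u : G)⁻¹) := by group
          _ = _ := by rw [hcu, e1]; group
      have hc_1 : c⁻¹ = 1 := eq_one_of_sq (mul_eq_right.1 e2.symm) (bb_odd hc ht hN ((bb G).inv_mem hcB))
      rw [hc_1, one_mul] at e1
      exact mem_cz.2 (mul_inv_eq_iff_eq_mul.1 e1).symm
    have hhB : ∀ u : Sw, g * ((u : G) * g * (u : G)⁻¹) ∉ bb G := by
      intro u h
      refine hgB (both g hg ?_)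
      have h2 : g * ((u : G) * g * (u : G)⁻¹) ∈ cz vx := mem_cz.2 (mem_bb.1 h vx hvx)
      have := mul_mem h2 (Subgroup.inv_mem _ (hgu u))
      rwa [mul_inv_cancel_right] at this
    -- pigeonhole
    let φ : Sw → {s : invs t // s ≠ ⟨t, t_mem, ht⟩} := fun u =>
      ⟨⟨((u : G) * g * (u : G)⁻¹) * t * ((u : G) * g * (u : G)⁻¹)⁻¹,
        (Subgroup.mem_normalizer_iff.1 (fix_pt_iff.1 (hgu0 u)) t).1 t_mem, (orderOf_conj _ t).trans ht⟩,
      fun e => hgB (by
        have e' : ((u : G) * g * (u : G)⁻¹) * t * ((u : G) * g * (u : G)⁻¹)⁻¹ = t := congrArg Subtype.val e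
        have h := bb_normal.conj_mem _ (both _ (mem_cz.2 (mul_inv_eq_iff_eq_mul.1 e')) (hgu u)) (u : G)⁻¹
        rwa [show (u : G)⁻¹ * ((u : G) * g * (u : G)⁻¹) * (u : G)⁻¹⁻¹ = g by group] at h)⟩
    have hlt : Nat.card {s : invs t // s ≠ ⟨t, t_mem, ht⟩} < Nat.card Sw := by
      haveI := Fintype.ofFinite (invs t)
      rw [card_swap hc ht hN (Ne.symm hx), Nat.card_eq_fintype_card, Nat.card_eq_fintype_card]
      exact Fintype.card_subtype_lt (x := ⟨t, t_mem, ht⟩) fun h => h rfl
    obtain ⟨u, u', huu, e⟩ : ∃ u u' : Sw, u ≠ u' ∧ φ u = φ u' := by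
      by_contra h
      push Not at h
      have hinj : Function.Injective φ := fun u u' e => by
        by_contra hne
        exact h u u' hne e
      exact absurd (Nat.card_le_card_of_injective φ hinj) (not_le.2 hlt)
    set k := (u : G) * g * (u : G)⁻¹
    set k' := (u' : G) * g * (u' : G)⁻¹
    have e' : k * t * k⁻¹ = k' * t * k'⁻¹ := congrArg (fun s : {s : invs t // s ≠ ⟨t, t_mem, ht⟩} => ((s : invs t) : G)) e
    have h0 : k⁻¹ * k' ∈ cz t := mem_cz.2 (by
      calc k⁻¹ * k' * t = k⁻¹ * (k' * t * k'⁻¹) * k' := by group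
        _ = k⁻¹ * (k * t * k⁻¹) * k' := by rw [e']
        _ = _ := by group)
    have hB := both _ h0 (mul_mem (Subgroup.inv_mem _ (hgu u)) (hgu u'))
    have hu' : g * k ∈ cz (u' : G) := by
      have := mul_mem (hh u') (Subgroup.inv_mem _ (mem_cz.2 (mem_bb.1 hB u' u'.2.1) : k⁻¹ * k' ∈ cz (u' : G)))
      rwa [show g * k' * (k⁻¹ * k')⁻¹ = g * k by group] at this
    obtain ⟨w, hw⟩ := exists_fix hc ht hN u.2.1
    obtain ⟨w', hw'⟩ := exists_fix hc ht hN u'.2.1
    refine hhB u (linked u u' _ w w' u.2.1 u'.2.1 hw hw' ?_ (hh u) hu')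
    rintro rfl
    have hcomm : Commute (u : G) (u' : G) := by
      have h := cz_eq_of_fix hc ht u.2.1 u'.2.1 hw hw'
      have hm : (u : G) ∈ cz (u' : G) := h ▸ t_mem
      exact mem_cz.1 hm
    have h3 : orderOf ((u : G) * u') = 2 := orderOf_eq_two (by
      calc (u : G) * u' * (u * u') = u * (u' * u) * u' := by group
        _ = u * (u * u') * u' := by rw [hcomm.eq]
        _ = u * u * (u' * u') := by group
        _ = 1 := by rw [mul_self u.2.1, mul_self u'.2.1, one_mul])
      fun e1 => huu (Subtype.ext ((eq_inv_of_mul_eq_one_left e1).trans (inv_eq u'.2.1)))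
    have h4 : w = pt t := fix_unique hc ht hN h3 (by rw [mul_smul, hw', hw])
      (by rw [mul_smul, u'.2.2, swap_back u.2.1 u.2.2])
    rw [h4, u.2.2] at hw
    exact hx hw

theorem odd_central {G : Type w} [Group G] [Finite G] {t : G} (hc : AC G) (ht : orderOf t = 2) (hN : nz t ≠ ⊤)
    (hi : 1 < Nat.card (invs t)) : ∀ a ∈ cz t, Odd (orderOf a) → a ∈ bb G :=
  odd_central_aux _ rfl hc ht hN hi

theorem reg {G : Type*} [Group G] [Finite G] {t : G} (hc : AC G) (ht : orderOf t = 2) (hN : nz t ≠ ⊤)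
    (hi : 1 < Nat.card (invs t)) : Reg t :=
  reg_of_odd_central hc ht hN (odd_central hc ht hN hi)

end CfsgLib.Recognition.AbelianCentraliser
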