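import Cfsg.Prelude.Def_LieExceptional
import Cfsg.Agent.Lib.Recognition.AbelianCentraliser.Basic
import Cfsg.Agent.Lib.Perm.ZGroup.Index

/-!
# Semiregular abelian involution centralisers give Zassenhaus groups
-/

set_option autoImplicit false
set_option linter.unusedSectionVars false

namespace CfsgLib.Recognition.AbelianCentraliser

open CfsgLib.Involution.Dihedral MulAction

variable {G : Type*} [Group G] [Finite G] {t : G}

/-- The centraliser is semiregular on the points it does not fix. -/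
def Sharp (t : G) : Prop := ∀ a ∈ cz t, ∀ x : G ⧸ nz t, x ≠ pt t → a • x = x → a = 1

variable (hc : AC G) (ht : orderOf t = 2) (hN : nz t ≠ ⊤) (hS : Sharp t)

include hc ht hN hS

theorem sharp' {v c : G} {w y : G ⧸ nz t} (hv : orderOf v = 2) (hw : v • w = w) (hcv : c ∈ cz v)
    (hy : c • y = y) (hne : y ≠ w) : c = 1 := by
  obtain ⟨g, hg, hcg⟩ := to_base hc ht hv hw
  exact conj_eq_one_iff.1 (hS _ (hcg c hcv) (g • y) (fun e => hne (MulAction.injective g (e.trans hg.symm)))
    (by rw [smul_smul, inv_mul_cancel_right, mul_smul, hy]))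

/-- A swapping involution inverts the stabiliser of the pair. -/
theorem inverts_pair {v g : G} {x y : G ⧸ nz t} (hv : orderOf v = 2) (hxy : x ≠ y) (hvxy : v • x = y)
    (hx : g • x = x) (hy : g • y = y) : v * g * v⁻¹ = g⁻¹ := by
  refine inverts_of_fpf hv (stabilizer G x ⊓ stabilizer G y) (fun k hk => ?_) (fun k hk hkv => ?_) g ⟨hx, hy⟩
  · have h1 : k • x = x := hk.1
    have h2 : k • y = y := hk.2
    exact ⟨(by rw [mul_smul, mul_smul, inv_eq hv, hvxy, h2, swap_back hv hvxy] : (v * k * v⁻¹) • x = x),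
      (by rw [mul_smul, mul_smul, inv_eq hv, swap_back hv hvxy, h1, hvxy] : (v * k * v⁻¹) • y = y)⟩
  · obtain ⟨w, hw⟩ := exists_fix hc ht hN hv
    refine sharp' hc ht hN hS hv hw (mem_cz.2 hkv) hk.1 fun e => ?_
    subst e
    exact hxy (hw.symm.trans hvxy)

theorem pair_comm {g g' : G} {x y : G ⧸ nz t} (hxy : x ≠ y) (hx : g • x = x) (hy : g • y = y)
    (hx' : g' • x = x) (hy' : g' • y = y) : Commute g g' := by
  obtain ⟨v, hv, hvxy⟩ := exists_swap hc ht hN hxy
  exact comm_of_inverted (K := stabilizer G x ⊓ stabilizer G y)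
    (fun k hk => inverts_pair hc ht hN hS hv hxy hvxy hk.1 hk.2) ⟨hx, hy⟩ ⟨hx', hy'⟩

/-- An element outside the centraliser fixes at most one further point. -/
theorem fixed_le {d : G} (hdA : d ∉ cz t) (hd0 : d • pt t = pt t) {x y : G ⧸ nz t} (hx : x ≠ pt t)
    (hy : y ≠ pt t) (hdx : d • x = x) (hdy : d • y = y) : x = y := by
  classical
  have hd1 : d ≠ 1 := fun e => hdA (e ▸ one_mem _)
  obtain ⟨u, hu, hux⟩ := exists_swap hc ht hN (Ne.symm hx)
  -- elements commuting with `d` and with an involution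
  have noinv : ∀ v : G, orderOf v = 2 → ¬ Commute d v := by
    intro v hv hdv
    obtain ⟨w, hw⟩ := exists_fix hc ht hN hv
    by_cases e : pt t = w
    · exact hd1 (sharp' hc ht hN hS hv hw (mem_cz.2 hdv) hdx (e ▸ hx))
    · exact hd1 (sharp' hc ht hN hS hv hw (mem_cz.2 hdv) hd0 e)
  set C := cz d with hC
  have hinvd : ∀ v : G, orderOf v = 2 → ∀ z : G ⧸ nz t, z ≠ pt t → d • z = z → v • pt t = z →
      v * d * v⁻¹ = d⁻¹ := fun v hv z hz hdz hvz => inverts_pair hc ht hN hS hv (Ne.symm hz) hvz hd0 hdz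
  have hud := hinvd u hu x hx hdx hux
  have hnorm : ∀ c ∈ C, u * c * u⁻¹ ∈ C := by
    intro c hcC
    have h1 : Commute (u * c * u⁻¹) (u * d⁻¹ * u⁻¹) := (Commute.conj_iff u).2 (mem_cz.1 hcC).inv_right
    rwa [show u * d⁻¹ * u⁻¹ = (u * d * u⁻¹)⁻¹ by group, hud, inv_inv, ← mem_cz] at h1
  have hfpf : ∀ c ∈ C, Commute c u → c = 1 := by
    intro c hcC hcu
    obtain ⟨w, hw⟩ := exists_fix hc ht hN hu
    refine sharp' hc ht hN hS hu hw (mem_cz.2 hcu) (y := d • w) ?_ fun e => ?_
    · rw [smul_smul, (mem_cz.1 hcC).eq, mul_smul, cz_fix hc ht hN hu hw (mem_cz.2 hcu)]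
    · -- then `d` would normalise the centraliser of `u`
      have h2 : d * u * d⁻¹ ∈ cz u := by
        have hw' : (d * u * d⁻¹) • w = w := by
          have e' : d⁻¹ • w = w := by rw [inv_smul_eq_iff]; exact e.symm
          rw [mul_smul, mul_smul, e', hw, e]
        have := cz_eq_of_fix hc ht hu ((orderOf_conj d u).trans hu) hw hw'
        rw [this]; exact t_mem
      have h3 : d * d ∈ cz u := by
        have e2 : d * u * d⁻¹ * u⁻¹ = d * d := by
          calc d * u * d⁻¹ * u⁻¹ = d * (u * d * u⁻¹)⁻¹ := by group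
            _ = d * d := by rw [hud, inv_inv]
        exact e2 ▸ mul_mem h2 (Subgroup.inv_mem _ t_mem)
      have h4 : d * d = 1 := by
        by_cases e3 : pt t = w
        · exact sharp' hc ht hN hS hu hw h3 (y := x) (by rw [mul_smul, hdx, hdx]) (e3 ▸ hx)
        · exact sharp' hc ht hN hS hu hw h3 (y := pt t) (by rw [mul_smul, hd0, hd0]) e3
      exact hd1 (eq_one_of_sq h4 (odd_of_fix hc ht hN (Ne.symm hx) hd0 hdx))
  have hinvC := inverts_of_fpf hu C hnorm hfpf
  have hCcomm : ∀ a ∈ C, ∀ b ∈ C, Commute a b := fun a ha b hb => comm_of_inverted hinvC ha hb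
  -- the stabiliser in `C` of the base point fixes `x`
  have hstab : ∀ c ∈ C, c • pt t = pt t → c • x = x := by
    intro c hcC hc0
    obtain ⟨e, he0, hex, hea⟩ := exists_pair_mul hc ht hN hx (fix_pt_iff.1 hc0)
    have hed : Commute e d := pair_comm hc ht hN hS (Ne.symm hx) he0 hex hd0 hdx
    have haC : e⁻¹ * c ∈ C := mem_cz.2 (hed.inv_left.mul_left (mem_cz.1 hcC))
    have hA : u * (e⁻¹ * c) * u⁻¹ ∈ cz t := by rw [hinvC _ haC]; exact Subgroup.inv_mem _ hea
    have h1 : e⁻¹ * c = 1 := by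
      have hv : orderOf (u⁻¹ * t * u⁻¹⁻¹) = 2 := (orderOf_conj _ _).trans ht
      have hvx : (u⁻¹ * t * u⁻¹⁻¹) • x = x := by
        rw [inv_inv, mul_smul, mul_smul, inv_eq hu, swap_back hu hux, t_fix hc ht, hux]
      refine sharp' hc ht hN hS hv hvx (mem_cz.2 ?_) (y := pt t)
        (fix_pt_iff.2 (Subgroup.le_normalizer hea)) (Ne.symm hx)
      have := (Commute.conj_iff u⁻¹).2 (mem_cz.1 hA)
      rwa [inv_inv, show u⁻¹ * (u * (e⁻¹ * c) * u⁻¹) * u = e⁻¹ * c by group, ← inv_inv u, inv_inv u⁻¹] at this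
    rw [← eq_of_inv_mul_eq_one h1]
    exact hex
  -- the orbit of the base point under `C`
  haveI := Fintype.ofFinite G
  let Γ := {c : G // c ∈ C}
  let Z := {z : G ⧸ nz t // z ≠ pt t ∧ d • z = z}
  let S : Subgroup G := C ⊓ stabilizer G (pt t)
  have hSD : ∀ e : G, e • pt t = pt t → e • x = x → e ∈ S := fun e h0 hx' =>
    ⟨mem_cz.2 (pair_comm hc ht hN hS (Ne.symm hx) h0 hx' hd0 hdx), h0⟩
  have hSle : Nat.card (invs t) ≤ Nat.card S := by
    refine Nat.card_le_card_of_surjective
      (fun e : S => (⟨(e : G) * t * (e : G)⁻¹, (Subgroup.mem_normalizer_iff.1 (fix_pt_iff.1 e.2.2) t).1 t_mem,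
        (orderOf_conj _ _).trans ht⟩ : invs t)) fun s => ?_
    obtain ⟨g, hg⟩ := exists_conj_eq hc ht hN s.2.2
    obtain ⟨e, he0, hex, hea⟩ := exists_pair_mul hc ht hN hx (mem_nz_of_meet hc ht t_mem ht (hg ▸ s.2.1 : g * t * g⁻¹ ∈ cz t))
    refine ⟨⟨e, hSD e he0 hex⟩, Subtype.ext ?_⟩
    show e * t * e⁻¹ = s
    rw [← hg]
    have := (mem_cz.1 hea).eq
    calc e * t * e⁻¹ = e * (t * (e⁻¹ * g)) * g⁻¹ := by group
      _ = e * (e⁻¹ * g * t) * g⁻¹ := by rw [this]
      _ = _ := by group
  -- the involutions inverting `d` inject into `C`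
  have hcount : Nat.card Z * Nat.card (invs t) ≤ Nat.card C := by
    letI := Fintype.ofFinite Z
    let W := Σ z : Z, {v : G // orderOf v = 2 ∧ v • pt t = z.1}
    have hW : Nat.card W = Nat.card Z * Nat.card (invs t) := by
      rw [Nat.card_sigma, Finset.sum_congr rfl fun z _ => card_swap hc ht hN (Ne.symm z.2.1), Finset.sum_const,
        Finset.card_univ, smul_eq_mul, Nat.card_eq_fintype_card (α := Z)]
    rw [← hW]
    refine Nat.card_le_card_of_injective (fun w : W => (⟨u * w.2.1, mem_cz.2 ?_⟩ : C)) ?_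
    · have h2 := hinvd _ w.2.2.1 w.1.1 w.1.2.1 w.1.2.2 w.2.2.2
      show u * w.2.1 * d = d * (u * w.2.1)
      calc u * w.2.1 * d = u * (w.2.1 * d * (w.2.1 : G)⁻¹) * w.2.1 := by group
        _ = (u * d * u⁻¹)⁻¹ * (u * w.2.1) := by rw [h2]; group
        _ = _ := by rw [hud, inv_inv]
    · rintro ⟨⟨z, hz⟩, ⟨v, hv⟩⟩ ⟨⟨z', hz'⟩, ⟨v', hv'⟩⟩ e
      have e' : v = v' := mul_left_cancel (congrArg Subtype.val e)
      subst e'
      obtain rfl : z = z' := hv.2.symm.trans hv'.2
      rfl
  letI : MulAction C (G ⧸ nz t) := inferInstance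
  set m := Nat.card (orbit C (pt t)) with hm
  have horb : m * Nat.card S = Nat.card C := by
    rw [hm, ← (stabilizer C (pt t)).index_mul_card, index_stabilizer, Nat.card_coe_set_eq]
    congr 1
    exact Nat.card_congr
      { toFun := fun c => ⟨⟨(c : G), c.2.1⟩, c.2.2⟩
        invFun := fun c => ⟨((c : C) : G), (c : C).2, c.2⟩
        left_inv := fun c => rfl
        right_inv := fun c => rfl }
  have hodd : Odd m := by
    have hCodd : Odd (Nat.card C) := Nat.not_even_iff_odd.1 fun he => by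
      obtain ⟨v, hvC, hv⟩ := CfsgLib.Involution.Basic.exists_involution_of_even _ he
      exact noinv v hv (mem_cz.1 hvC).symm
    exact hCodd.of_dvd_nat ⟨Nat.card S, horb.symm⟩
  have horbd : ∀ z ∈ orbit C (pt t), d • z = z := by
    rintro _ ⟨c, rfl⟩
    show d • ((c : G) • pt t) = (c : G) • pt t
    rw [smul_smul, ← (mem_cz.1 c.2).eq, mul_smul, hd0]
  -- `x` is not in the orbit
  have hxorb : x ∉ orbit C (pt t) := by
    rintro ⟨c, hc'⟩
    have hc'' : (c : G) • pt t = x := hc'
    -- the swap preserves the odd orbit, so has a fixed point there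
    have hmap : ∀ z ∈ orbit C (pt t), u • z ∈ orbit C (pt t) := by
      rintro _ ⟨k, rfl⟩
      refine ⟨⟨u * (k : G) * u⁻¹, hnorm _ k.2⟩ * c, ?_⟩
      show (u * (k : G) * u⁻¹ * (c : G)) • pt t = u • ((k : G) • pt t)
      rw [mul_smul, hc'', mul_smul, mul_smul, inv_eq hu, swap_back hu hux]
    obtain ⟨z, hz⟩ : ∃ z ∈ orbit C (pt t), u • z = z := by
      classical
      by_contra h
      push Not at h
      letI := Fintype.ofFinite (orbit C (pt t))
      let σ : Equiv.Perm (orbit C (pt t)) := ⟨fun z => ⟨u • z.1, hmap _ z.2⟩, fun z => ⟨u • z.1, hmap _ z.2⟩,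
        fun z => Subtype.ext (by show u • u • z.1 = z.1; rw [smul_smul, mul_self hu, one_smul]),
        fun z => Subtype.ext (by show u • u • z.1 = z.1; rw [smul_smul, mul_self hu, one_smul])⟩
      haveI : Fact (Nat.Prime 2) := ⟨Nat.prime_two⟩
      obtain ⟨z, hz⟩ := Equiv.Perm.exists_fixed_point_of_prime (p := 2) (n := 1) (by
        rw [← Nat.card_eq_fintype_card, ← hm]; obtain ⟨k, hk⟩ := hodd; omega) (σ := σ) (by
        ext z; show u • u • z.1 = z.1; rw [smul_smul, mul_self hu, one_smul])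
      exact h z.1 z.2 (congrArg Subtype.val hz)
    have hdz := horbd z hz.1
    have h2 : d * u * d⁻¹ ∈ cz u := by
      have hw' : (d * u * d⁻¹) • z = z := by
        have e' : d⁻¹ • z = z := by rw [inv_smul_eq_iff, hdz]
        rw [mul_smul, mul_smul, e', hz.2, hdz]
      have := cz_eq_of_fix hc ht hu ((orderOf_conj d u).trans hu) hz.2 hw'
      rw [this]; exact t_mem
    have h3 : Commute (d * d) u := by
      have e2 : d * u * d⁻¹ * u⁻¹ = d * d := by
        calc d * u * d⁻¹ * u⁻¹ = d * (u * d * u⁻¹)⁻¹ := by group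
          _ = d * d := by rw [hud, inv_inv]
      exact e2 ▸ mem_cz.1 (mul_mem h2 (Subgroup.inv_mem _ t_mem))
    exact hd1 (eq_one_of_sq (hfpf _ (mem_cz.2 ((Commute.refl d).mul_left (Commute.refl d))) h3)
      (odd_of_fix hc ht hN (Ne.symm hx) hd0 hdx))
  -- the orbit lies among the fixed points other than `x`
  let f : orbit C (pt t) → Z := fun z => if h : z.1 = pt t then (⟨x, hx, hdx⟩ : Z) else ⟨z.1, h, horbd _ z.2⟩
  have hinj : Function.Injective f := by
    intro z z' e
    apply Subtype.ext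
    simp only [f] at e
    split_ifs at e with h h' h'
    · exact h.trans h'.symm
    · have e' : x = z'.1 := congrArg Subtype.val e
      exact absurd (e' ▸ z'.2) hxorb
    · have e' : z.1 = x := congrArg Subtype.val e
      exact absurd (e' ▸ z.2) hxorb
    · exact congrArg (fun w : Z => (w.1 : G ⧸ nz t)) e
  have hmZ : m ≤ Nat.card Z := Nat.card_le_card_of_injective f hinj
  have hi : 0 < Nat.card (invs t) := Nat.card_pos_iff.2 ⟨⟨⟨t, t_mem, ht⟩⟩, inferInstance⟩
  have hZm : Nat.card Z ≤ m := by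
    have hS' : Nat.card S = Nat.card (invs t) := by
      refine le_antisymm ?_ hSle
      refine Nat.card_le_card_of_injective
        (fun e : S => (⟨(e : G) * t * (e : G)⁻¹, (Subgroup.mem_normalizer_iff.1 (fix_pt_iff.1 e.2.2) t).1 t_mem,
          (orderOf_conj _ _).trans ht⟩ : invs t)) fun e f h => ?_
      have h' : (e : G) * t * (e : G)⁻¹ = f * t * (f : G)⁻¹ := congrArg Subtype.val h
      have hfix : ((f : G)⁻¹ * e) • x = x := by
        rw [mul_smul, hstab _ e.2.1 e.2.2, inv_smul_eq_iff, hstab _ f.2.1 f.2.2]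
      have hA : (f : G)⁻¹ * e ∈ cz t := mem_cz.2 (by
        calc (f : G)⁻¹ * e * t = (f : G)⁻¹ * (e * t * (e : G)⁻¹) * e := by group
          _ = (f : G)⁻¹ * (f * t * (f : G)⁻¹) * e := by rw [h']
          _ = _ := by group)
      exact Subtype.ext (inv_mul_eq_one.1 (hS _ hA x hx hfix)).symm
    rw [← hS', ← horb] at hcount
    exact Nat.le_of_mul_le_mul_right hcount Nat.card_pos
  -- every orbit point other than the base is different from `x`, so the orbit misses one point
  have hfix : ∀ k ∈ C, k • pt t = pt t := by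
    intro k hk
    by_contra hk0
    -- conjugating by the swap gives the orbit of `x`
    set z1 := (k : G) • pt t with hz1
    have hz1o : z1 ∈ orbit C (pt t) := ⟨⟨k, hk⟩, rfl⟩
    have hz2 : u • z1 ∈ orbit C x := ⟨⟨u * k * u⁻¹, hnorm k hk⟩, by
      show (u * k * u⁻¹) • x = u • z1
      rw [mul_smul, mul_smul, inv_eq hu, ← hux, smul_smul u u, mul_self hu, one_smul]⟩
    have hdisj : u • z1 ∉ orbit C (pt t) := fun h => hxorb (by
      obtain ⟨a, ha⟩ := hz2
      rw [← ha] at h
      have h' := (MulAction.orbit_eq_iff.2 h)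
      rw [MulAction.orbit_smul] at h'
      exact h' ▸ MulAction.mem_orbit_self x)
    have hdz2 : d • (u • z1) = u • z1 := by
      have hh : d⁻¹ • z1 = z1 := by rw [inv_smul_eq_iff, horbd _ hz1o]
      have e2 : d * u = u * d⁻¹ := by
        calc d * u = u * (u⁻¹ * d * u) := by group
          _ = u * (u * d * u⁻¹) := by rw [inv_eq hu]
          _ = _ := by rw [hud]
      rw [smul_smul, e2, mul_smul, hh]
    have hne : u • z1 ≠ pt t := fun e => hdisj (e ▸ MulAction.mem_orbit_self _)
    have hnx : u • z1 ≠ x := fun e => hk0 (MulAction.injective u (e.trans hux.symm))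
    have hnr : (⟨u • z1, hne, hdz2⟩ : Z) ∉ Set.range f := by
      rintro ⟨z, hz⟩
      simp only [f] at hz
      split_ifs at hz with h
      · exact hnx (congrArg Subtype.val hz).symm
      · have e' : z.1 = u • z1 := congrArg Subtype.val hz
        exact hdisj (e' ▸ z.2)
    haveI := Fintype.ofFinite Z
    haveI := Fintype.ofFinite (orbit C (pt t))
    have := Fintype.card_lt_of_injective_of_notMem f hinj hnr
    rw [← Nat.card_eq_fintype_card, ← Nat.card_eq_fintype_card] at this
    omega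
  have hm1 : m = 1 := by
    rw [hm, Nat.card_coe_set_eq, Set.ncard_eq_one]
    exact ⟨pt t, Set.eq_singleton_iff_unique_mem.2 ⟨MulAction.mem_orbit_self _, fun z ⟨k, hk⟩ => hk ▸ hfix _ k.2⟩⟩
  haveI : Subsingleton Z := Finite.card_le_one_iff_subsingleton.1 (by omega)
  exact congrArg Subtype.val (Subsingleton.elim (⟨x, hx, hdx⟩ : Z) ⟨y, hy, hdy⟩)

end CfsgLib.Recognition.AbelianCentraliser
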